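import Mathlib

/-!
# Alternating pairings with values in the units of a finite field
-/

set_option autoImplicit false
set_option linter.style.haveILetI false
set_option linter.unusedSectionVars false

namespace Cfsg.Agent.GStructB.OddBase.Pairing

universe u v

variable {Y : Type u} [CommGroup Y] [Finite Y] {K : Type v} [Field K] [Finite K]

/-- There are at most `|Y|` characters. -/
theorem card_hom_le : Nat.card (Y →* Kˣ) ≤ Nat.card Y := by
  haveI : Fintype Y := Fintype.ofFinite Y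
  haveI : Finite (Y →* K) := Finite.of_injective (fun f : Y →* K => (f : Y → K)) DFunLike.coe_injective
  haveI : Fintype (Y →* K) := Fintype.ofFinite _
  have h := (linearIndependent_monoidHom Y K).fintype_card_le_finrank
  rw [Module.finrank_fintype_fun_eq_card, ← Nat.card_eq_fintype_card, ← Nat.card_eq_fintype_card] at h
  refine (Nat.card_le_card_of_injective (fun f : Y →* Kˣ => (Units.coeHom K).comp f) ?_).trans h
  intro f g e
  exact MonoidHom.ext fun y => Units.ext (DFunLike.congr_fun e y)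

/-- Every character is given by an element. -/
theorem exists_eq (ω : Y →* Y →* Kˣ) (hnd : ∀ y, (∀ z, ω y z = 1) → y = 1) (χ : Y →* Kˣ) :
    ∃ y, ω y = χ := by
  haveI : Finite (Y →* Kˣ) := Finite.of_injective (fun f : Y →* Kˣ => (f : Y → Kˣ)) DFunLike.coe_injective
  have hinj : Function.Injective ω := (injective_iff_map_eq_one ω).mpr fun y hy =>
    hnd y fun z => by rw [hy]; rfl
  exact ((Nat.bijective_iff_injective_and_card _).mpr
    ⟨hinj, le_antisymm (Nat.card_le_card_of_injective _ hinj) card_hom_le⟩).2 χ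

/-- The perpendicular subgroup. -/
def perp (ω : Y →* Y →* Kˣ) (U : Subgroup Y) : Subgroup Y where
  carrier := {y | ∀ u ∈ U, ω y u = 1}
  one_mem' u _ := by rw [map_one]; rfl
  mul_mem' {a b} ha hb u hu := by rw [map_mul, MonoidHom.mul_apply, ha u hu, hb u hu, one_mul]
  inv_mem' {a} ha u hu := by rw [map_inv, MonoidHom.inv_apply, ha u hu, inv_one]

theorem card_perp (ω : Y →* Y →* Kˣ) (U : Subgroup Y) :
    Nat.card Y ≤ Nat.card U * Nat.card (perp ω U) := by
  let r : Y →* (U →* Kˣ) :=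
    { toFun := fun y => (ω y).comp U.subtype
      map_one' := by ext; simp
      map_mul' := fun a b => by ext; simp }
  haveI : Finite (U →* Kˣ) := Finite.of_injective (fun f : U →* Kˣ => (f : U → Kˣ)) DFunLike.coe_injective
  have hker : r.ker = perp ω U := by
    ext y
    exact ⟨fun h u hu => DFunLike.congr_fun (MonoidHom.mem_ker.mp h) ⟨u, hu⟩,
      fun h => MonoidHom.ext fun u => h u.1 u.2⟩
  calc Nat.card Y = Nat.card r.ker * r.ker.index := r.ker.card_mul_index.symm
    _ = Nat.card (perp ω U) * Nat.card r.range := by rw [Subgroup.index_ker, hker]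
    _ ≤ Nat.card (perp ω U) * Nat.card U := Nat.mul_le_mul le_rfl
        ((Nat.card_le_card_of_injective _ r.range.subtype_injective).trans card_hom_le)
    _ = _ := mul_comm _ _

theorem swap (ω : Y →* Y →* Kˣ) (halt : ∀ y, ω y y = 1) (y z : Y) : ω z y = (ω y z)⁻¹ := by
  have h := halt (y * z)
  simp only [map_mul, MonoidHom.mul_apply, halt, mul_one, one_mul] at h
  exact eq_inv_of_mul_eq_one_left h

/-- No element of order `s ^ 2` makes the order a square. -/
theorem card_square : ∀ (n : ℕ) (Y : Type u) [CommGroup Y] [Finite Y] (ω : Y →* Y →* Kˣ),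
    Nat.card Y = n → (∀ y, ω y y = 1) → (∀ y, (∀ z, ω y z = 1) → y = 1) →
    (∀ (y : Y) (s : ℕ), s.Prime → y ^ (s * s) = 1 → y ^ s = 1) → ∃ e, n = e ^ 2 := by
  intro n
  induction n using Nat.strong_induction_on with
  | _ n ih =>
  intro Y _ _ ω hn halt hnd hexp
  classical
  by_cases h1 : n = 1
  · exact ⟨1, by rw [h1, one_pow]⟩
  obtain ⟨s, hs, hsd⟩ := Nat.exists_prime_and_dvd h1
  haveI : Fact s.Prime := ⟨hs⟩
  obtain ⟨y, hy⟩ := exists_prime_orderOf_dvd_card' (G := Y) s (hn ▸ hsd)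
  have hys : y ^ s = 1 := hy ▸ pow_orderOf_eq_one y
  have hy1 : y ≠ 1 := fun e => by rw [e, orderOf_one] at hy; exact hs.ne_one hy.symm
  obtain ⟨z₀, hz₀⟩ : ∃ z, ω y z ≠ 1 := by
    by_contra h
    push Not at h
    exact hy1 (hnd y h)
  -- a partner of order `s`
  obtain ⟨z, hzs, hz⟩ : ∃ z, z ^ s = 1 ∧ ω y z ≠ 1 := by
    set t := orderOf z₀ / s with ht
    have hc : ω y z₀ ^ s = 1 := by
      rw [← MonoidHom.pow_apply, ← map_pow, hys, map_one]; rfl
    have hco : orderOf (ω y z₀) = s := orderOf_eq_prime hc hz₀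
    have hdvd : s ∣ orderOf z₀ := hco ▸ orderOf_map_dvd (ω y) z₀
    have hts : t * s = orderOf z₀ := Nat.div_mul_cancel hdvd
    refine ⟨z₀ ^ t, by rw [← pow_mul, hts, pow_orderOf_eq_one], fun e => ?_⟩
    rw [map_pow] at e
    have hst : s ∣ t := hco ▸ orderOf_dvd_of_pow_eq_one e
    obtain ⟨r, hr⟩ := hst
    have hw := hexp (z₀ ^ r) s hs (by rw [← pow_mul, show r * (s * s) = orderOf z₀ by rw [← hts, hr]; ring, pow_orderOf_eq_one])
    rw [← pow_mul] at hw
    have hle := Nat.le_of_dvd (Nat.mul_pos (Nat.pos_of_ne_zero fun h => by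
      rw [h, mul_zero] at hr; rw [hr, zero_mul] at hts; exact (orderOf_pos z₀).ne hts) hs.pos)
      (orderOf_dvd_of_pow_eq_one hw)
    rw [← hts, hr] at hle
    have h3 : r * s < s * r * s := by
      have hr0 : 0 < r * s := Nat.mul_pos (Nat.pos_of_ne_zero fun h => by
        rw [h, mul_zero] at hr; rw [hr, zero_mul] at hts; exact (orderOf_pos z₀).ne hts) hs.pos
      calc r * s = 1 * (r * s) := (one_mul _).symm
        _ < s * (r * s) := Nat.mul_lt_mul_of_pos_right hs.one_lt hr0
        _ = s * r * s := by ring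
    omega
  set ζ := ω y z with hζ
  have hζs : ζ ^ s = 1 := by rw [hζ, ← map_pow, hzs, map_one]
  have hζo : orderOf ζ = s := orderOf_eq_prime hζs hz
  have hroot : ∀ c : Kˣ, c ^ s = 1 → c ∈ Subgroup.zpowers ζ := by
    intro c hc
    haveI : Fintype Kˣ := Fintype.ofFinite _
    have hsub : (Finset.univ.filter fun k : Kˣ => k ∈ Subgroup.zpowers ζ) ⊆
        Finset.univ.filter fun k : Kˣ => k ^ s = 1 := by
      intro k hk
      simp only [Finset.mem_filter, Finset.mem_univ, true_and] at hk ⊢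
      obtain ⟨i, rfl⟩ := hk
      show (ζ ^ i) ^ s = 1
      rw [← zpow_natCast, ← zpow_mul, mul_comm, zpow_mul, zpow_natCast, hζs, one_zpow]
    have hcard : (Finset.univ.filter fun k : Kˣ => k ^ s = 1).card ≤
        (Finset.univ.filter fun k : Kˣ => k ∈ Subgroup.zpowers ζ).card := by
      refine (IsCyclic.card_pow_eq_one_le hs.pos).trans (le_of_eq ?_)
      rw [← Fintype.card_subtype, ← Nat.card_eq_fintype_card]
      exact (hζo.symm.trans (Nat.card_zpowers ζ).symm)
    have := (Finset.eq_of_subset_of_card_le hsub hcard).symm ▸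
      (Finset.mem_filter.mpr ⟨Finset.mem_univ c, hc⟩ : c ∈ Finset.univ.filter fun k : Kˣ => k ^ s = 1)
    exact (Finset.mem_filter.mp this).2
  let f : Y →* Kˣ × Kˣ :=
    { toFun := fun x => (ω x y, ω x z)
      map_one' := by simp
      map_mul' := fun a b => by simp }
  set Z := f.ker with hZ
  have hZmem : ∀ x, x ∈ Z ↔ ω x y = 1 ∧ ω x z = 1 := fun x => by
    rw [hZ, MonoidHom.mem_ker]; exact Prod.mk_eq_one
  have hval : ∀ i j : ℤ, f (y ^ j * z ^ (-i)) = (ζ ^ i, ζ ^ j) := by
    intro i j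
    refine Prod.ext ?_ ?_
    · show ω.flip y (y ^ j * z ^ (-i)) = ζ ^ i
      rw [map_mul, map_zpow, map_zpow, MonoidHom.flip_apply, MonoidHom.flip_apply, halt,
        swap ω halt y z, ← hζ, one_zpow, one_mul, inv_zpow, zpow_neg, inv_inv]
    · show ω.flip z (y ^ j * z ^ (-i)) = ζ ^ j
      rw [map_mul, map_zpow, map_zpow, MonoidHom.flip_apply, MonoidHom.flip_apply, halt,
        ← hζ, one_zpow, mul_one]
  have hrange : f.range = (Subgroup.zpowers ζ).prod (Subgroup.zpowers ζ) := by
    refine le_antisymm ?_ ?_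
    · rintro _ ⟨x, rfl⟩
      exact ⟨hroot _ (by show ω x y ^ s = 1; rw [← map_pow, hys, map_one]),
        hroot _ (by show ω x z ^ s = 1; rw [← map_pow, hzs, map_one])⟩
    · rintro ⟨a, b⟩ ⟨⟨i, rfl⟩, ⟨j, rfl⟩⟩
      exact ⟨y ^ j * z ^ (-i), hval i j⟩
  have hidx : Z.index = s * s := by
    rw [hZ, Subgroup.index_ker, hrange, Nat.card_congr (Subgroup.prodEquiv _ _).toEquiv, Nat.card_prod,
      Nat.card_zpowers, hζo]
  have hcardZ : Nat.card Z * (s * s) = n := by rw [← hidx, Subgroup.card_mul_index, hn]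
  have hlt : Nat.card Z < n := by
    rw [← hcardZ]
    exact lt_mul_of_one_lt_right Nat.card_pos (by
      calc 1 < s := hs.one_lt
        _ ≤ s * s := Nat.le_mul_of_pos_left s hs.pos)
  let ω' : Z →* Z →* Kˣ :=
    { toFun := fun x => (ω x.1).comp Z.subtype
      map_one' := by ext; simp
      map_mul' := fun a b => by ext; simp }
  have hndZ : ∀ x : Z, (∀ w : Z, ω' x w = 1) → x = 1 := by
    intro x hx
    refine Subtype.ext (hnd x.1 fun w => ?_)
    obtain ⟨⟨i, hi⟩, ⟨j, hj⟩⟩ : ω w y ∈ Subgroup.zpowers ζ ∧ ω w z ∈ Subgroup.zpowers ζ :=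
      (hrange ▸ ⟨w, rfl⟩ : f w ∈ (Subgroup.zpowers ζ).prod (Subgroup.zpowers ζ))
    set v := y ^ j * z ^ (-i) with hv
    have hvw : w * v⁻¹ ∈ Z := by
      have e : f v = f w := (hval i j).trans (Prod.ext hi hj)
      rw [hZ, MonoidHom.mem_ker, map_mul, map_inv, e, mul_inv_cancel]
    have h1 : ω x.1 (w * v⁻¹) = 1 := hx ⟨_, hvw⟩
    obtain ⟨hxy, hxz⟩ := (hZmem x.1).mp x.2
    rwa [hv, map_mul, map_inv, map_mul, map_zpow, map_zpow, hxy, hxz, one_zpow, one_zpow, one_mul,
      inv_one, mul_one] at h1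
  obtain ⟨e, he⟩ := ih _ hlt Z ω' rfl (fun x => halt x.1) hndZ
    (fun x t ht hx => Subtype.ext (hexp x.1 t ht (congrArg Subtype.val hx :)))
  exact ⟨e * s, by rw [← hcardZ, he]; ring⟩

end Cfsg.Agent.GStructB.OddBase.Pairing
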