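import Cfsg.Agent.GStructB.OddBase.Quasi

/-!
# Odd order completely reducible groups have a base of two vectors
-/

set_option autoImplicit false
set_option linter.style.haveILetI false
set_option linter.unusedSectionVars false

open MulAction

namespace Cfsg.Agent.GStructB.OddBase

universe u v

/-- Irreducible solvable groups of odd order have two regular orbits on pairs of vectors. -/
theorem twoOK (n : ℕ) : TwoOK.{u} n := by
  induction n using Nat.strong_induction_on with
  | _ n ih =>
  intro A _ _ V _ _ _ _ hs hodd hV hn hirr
  subst hV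
  have hlin : ∀ m < Nat.card V, LinOK.{u} m := fun m hm => linOK_of_twoOK (ih m hm)
  by_cases hf : ∀ B : Subgroup A, B.Normal → (∀ x ∈ B, ∀ y ∈ B, x * y = y * x) →
      IsField (genRing V B)
  · exact quasi hs hodd ih hn hf
  · push Not at hf
    obtain ⟨B, hBn, hBab, hB⟩ := hf
    haveI := hBn
    exact (field_or_two hs hodd hlin ih hirr hn B hBab).resolve_right hB

/-- Two vectors with trivial common stabilizer. -/
theorem base_two {A : Type v} [Group A] [Finite A] (hs : Group.IsSolvable A)
    (hodd : Odd (Nat.card A)) {V : Type u} [AddCommGroup V] [Finite V] [DistribMulAction A V]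
    [FaithfulSMul A V] (hcr : ComplRed A V) :
    ∃ v w : V, ∀ a : A, a • v = v → a • w = w → a = 1 := by
  obtain ⟨p, hp⟩ := cr_base hs hodd _ V rfl (fun m _ => twoOK m) hcr
  exact ⟨p.1, p.2, fun a h1 h2 => eq_of_smul_eq_smul fun x : V =>
    (hp a (Prod.ext h1 h2) x).trans (one_smul A x).symm⟩

end Cfsg.Agent.GStructB.OddBase
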