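import Cfsg.Agent.GStructB.OddBase.Two
import Cfsg.Agent.GroupStructure3.FrattiniAut

/-!
# Completely reducible modules and bounds for irreducible linear groups of odd order
-/

set_option autoImplicit false
set_option linter.style.haveILetI false
set_option linter.unusedSectionVars false

open MulAction

namespace Cfsg.Agent.GStructB.OddBase

universe u v w

/-- Complete reducibility. -/
def ComplRed (A : Type v) (V : Type w) [Group A] [AddCommGroup V] [DistribMulAction A V] : Prop :=
  ∀ U : AddSubgroup V, (∀ a : A, ∀ x ∈ U, a • x ∈ U) →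
    ∃ W : AddSubgroup V, (∀ a : A, ∀ x ∈ W, a • x ∈ W) ∧ U ⊓ W = ⊥ ∧ U ⊔ W = ⊤

section

variable {A : Type v} [Group A]

/-- The action on an invariant subgroup. -/
@[reducible] def subAction {V : Type w} [AddCommGroup V] [DistribMulAction A V] (U : AddSubgroup V)
    (hU : ∀ a : A, ∀ x ∈ U, a • x ∈ U) : DistribMulAction A U where
  smul a x := ⟨a • x.1, hU a x.1 x.2⟩
  one_smul x := Subtype.ext (one_smul A x.1)
  mul_smul a b x := Subtype.ext (mul_smul a b x.1)
  smul_zero a := Subtype.ext (smul_zero a)
  smul_add a x y := Subtype.ext (smul_add a x.1 y.1)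

/-- A completely reducible action has a pair whose stabilizer acts trivially. -/
theorem cr_base [Finite A] (hs : Group.IsSolvable A) (hodd : Odd (Nat.card A)) :
    ∀ (n : ℕ) (V : Type u) [AddCommGroup V] [Finite V] [DistribMulAction A V],
      Nat.card V = n → (∀ m ≤ n, TwoOK.{u} m) → ComplRed A V →
      ∃ p : V × V, ∀ a : A, a • p = p → ∀ x : V, a • x = x := by
  intro n
  induction n using Nat.strong_induction_on with
  | _ n ih =>
  intro V _ _ _ hV hok hcr
  classical
  by_cases h1 : ∀ x : V, x = 0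
  · exact ⟨0, fun a _ x => by rw [h1 x, smul_zero]⟩
  push Not at h1
  obtain ⟨x₀, hx₀⟩ := h1
  obtain ⟨U, ⟨hU, hU0⟩, hUmin⟩ := Set.Finite.exists_minimalFor
    (fun U : AddSubgroup V => Nat.card U)
    {U : AddSubgroup V | (∀ a : A, ∀ x ∈ U, a • x ∈ U) ∧ U ≠ ⊥} (Set.toFinite _)
    ⟨⊤, fun a x _ => AddSubgroup.mem_top _, fun h => hx₀ ((AddSubgroup.mem_bot).mp (h ▸ AddSubgroup.mem_top x₀))⟩
  obtain ⟨W, hW, hUW, hsup⟩ := hcr U hU
  letI := subAction U hU
  letI := subAction W hW
  have hU1 : 1 < Nat.card U := by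
    haveI := (AddSubgroup.nontrivial_iff_ne_bot U).mpr hU0
    exact Finite.one_lt_card
  have hUn : Nat.card U ≤ n := hV ▸ Nat.card_le_card_of_injective _ U.subtype_injective
  have hirr : Irred A U := by
    intro Z hZ
    have hZinv : ∀ a : A, ∀ x ∈ Z.map U.subtype, a • x ∈ Z.map U.subtype := by
      rintro a _ ⟨z, hz, rfl⟩
      exact ⟨a • z, hZ a z hz, rfl⟩
    by_cases hb : Z.map U.subtype = ⊥
    · exact Or.inl ((AddSubgroup.map_eq_bot_iff_of_injective _ U.subtype_injective).mp hb)
    · refine Or.inr (AddSubgroup.eq_top_of_card_eq _ ?_)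
      have h2 : Nat.card (Z.map U.subtype) ≤ Nat.card U := by
        rw [AddSubgroup.card_map_of_injective U.subtype_injective]
        exact Nat.card_le_card_of_injective _ Z.subtype_injective
      have h3 : Nat.card U ≤ Nat.card (Z.map U.subtype) := hUmin ⟨hZinv, hb⟩ h2
      rw [AddSubgroup.card_map_of_injective U.subtype_injective] at h2 h3
      omega
  obtain ⟨p, -, hp, -, -⟩ := two_kernel (hok _ hUn) hs hodd rfl hU1 hirr
  have hWn : Nat.card W < n := by
    refine hV ▸ lt_of_le_of_ne (Nat.card_le_card_of_injective _ W.subtype_injective) fun e => ?_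
    rw [AddSubgroup.eq_top_of_card_eq _ e, inf_top_eq] at hUW
    exact hU0 hUW
  have hcrW : ComplRed A W := by
    intro Z hZ
    have hZinv : ∀ a : A, ∀ x ∈ Z.map W.subtype, a • x ∈ Z.map W.subtype := by
      rintro a _ ⟨z, hz, rfl⟩
      exact ⟨a • z, hZ a z hz, rfl⟩
    obtain ⟨C, hC, hb, ht⟩ := hcr _ hZinv
    refine ⟨C.comap W.subtype, fun a x hx => hC a x.1 hx, ?_, ?_⟩
    · rw [eq_bot_iff]
      rintro x ⟨hxZ, hxC⟩
      have : (x : V) ∈ Z.map W.subtype ⊓ C := ⟨⟨x, hxZ, rfl⟩, hxC⟩
      rw [hb] at this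
      exact Subtype.ext this
    · rw [eq_top_iff]
      intro x _
      obtain ⟨y, hy, c, hc, e⟩ := AddSubgroup.mem_sup.mp (ht ▸ AddSubgroup.mem_top (x : V))
      obtain ⟨z, hz, rfl⟩ := hy
      refine AddSubgroup.mem_sup.mpr ⟨z, hz, ⟨c, ?_⟩, hc, Subtype.ext e⟩
      rw [← sub_eq_of_eq_add' (G := V) e.symm]
      exact W.sub_mem x.2 z.2
  obtain ⟨q, hq⟩ := ih _ hWn W rfl (fun m hm => hok m (hm.trans hWn.le)) hcrW
  refine ⟨((p.1 : V) + q.1, (p.2 : V) + q.2), fun a ha x => ?_⟩
  have huniq : ∀ (u u' : U) (w w' : W), (u : V) + w = u' + w' → u = u' ∧ w = w' := by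
    intro u u' w w' e
    have h : (u : V) - u' = w' - w := by rw [sub_eq_sub_iff_add_eq_add, e, add_comm]
    have : (u : V) - u' ∈ U ⊓ W := ⟨U.sub_mem u.2 u'.2, h ▸ W.sub_mem w'.2 w.2⟩
    rw [hUW, AddSubgroup.mem_bot, sub_eq_zero] at this
    exact ⟨Subtype.ext this, Subtype.ext (add_left_cancel (this ▸ e))⟩
  have e1 := huniq (a • p.1) p.1 (a • q.1) q.1 ((smul_add a _ _).symm.trans (congrArg Prod.fst ha))
  have e2 := huniq (a • p.2) p.2 (a • q.2) q.2 ((smul_add a _ _).symm.trans (congrArg Prod.snd ha))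
  obtain ⟨u, hu, w, hw, rfl⟩ := AddSubgroup.mem_sup.mp (hsup ▸ AddSubgroup.mem_top x)
  rw [smul_add]
  exact congrArg₂ (· + ·) (congrArg Subtype.val (hp a (Prod.ext e1.1 e2.1) ⟨u, hu⟩))
    (congrArg Subtype.val (hq a (Prod.ext e1.2 e2.2) ⟨w, hw⟩))

variable {V : Type w} [AddCommGroup V] [Finite V] [DistribMulAction A V]

/-- A normal `s`-subgroup acts trivially on a completely reducible `s`-group. -/
theorem pgroup_trivial {s : ℕ} [Fact s.Prime] (hV : IsPGroup s (Multiplicative V))
    (hcr : ComplRed A V) (N : Subgroup A) [N.Normal] [Finite N] (hN : IsPGroup s N) :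
    ∀ n ∈ N, ∀ x : V, n • x = x := by
  let F : AddSubgroup V :=
    { carrier := {x | ∀ n ∈ N, n • x = x}
      zero_mem' := fun n _ => smul_zero n
      add_mem' := fun {x y} hx hy n hn => by rw [smul_add, hx n hn, hy n hn]
      neg_mem' := fun {x} hx n hn => by rw [smul_neg, hx n hn] }
  have hFinv : ∀ a : A, ∀ x ∈ F, a • x ∈ F := fun a x hx n hn => by
    have h := hx (a⁻¹ * n * a) (by simpa using Subgroup.Normal.conj_mem (H := N) inferInstance n hn a⁻¹)
    rw [mul_smul, mul_smul, inv_smul_eq_iff] at h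
    exact h
  obtain ⟨W, hW, hb, ht⟩ := hcr F hFinv
  letI := subAction W hW
  suffices hWb : W = ⊥ by
    intro n hn x
    rw [hWb, sup_bot_eq] at ht
    exact (ht ▸ AddSubgroup.mem_top x : x ∈ F) n hn
  by_contra hWb
  haveI := (AddSubgroup.nontrivial_iff_ne_bot W).mpr hWb
  have hdvd : s ∣ Nat.card W := by
    obtain ⟨k, hk⟩ := hV.exists_card_eq
    obtain ⟨j, -, hj⟩ := (Nat.dvd_prime_pow Fact.out).mp
      (hk ▸ (AddSubgroup.card_addSubgroup_dvd_card W : Nat.card W ∣ Nat.card V) :
        Nat.card W ∣ s ^ k)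
    rw [hj]
    refine dvd_pow_self _ ?_
    rintro rfl
    exact absurd hj (Finite.one_lt_card (α := W)).ne'
  have h0 : (0 : W) ∈ MulAction.fixedPoints N W := fun n => smul_zero (n : A)
  obtain ⟨x, hx, hx0⟩ :=
    hN.exists_fixed_point_of_prime_dvd_card_of_fixed_point W hdvd h0
  refine hx0 (Subtype.ext ?_)
  have : (x : V) ∈ F ⊓ W := ⟨fun n hn => congrArg Subtype.val (hx ⟨n, hn⟩), x.2⟩
  rw [hb] at this
  exact this.symm

end

/-- Complete reducibility of an irreducible action. -/
theorem complRed_of_irred {A : Type v} [Group A] {V : Type w} [AddCommGroup V]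
    [DistribMulAction A V] (h : Irred A V) : ComplRed A V := fun U hU => by
  rcases h U hU with rfl | rfl
  · exact ⟨⊤, fun a x _ => AddSubgroup.mem_top _, bot_inf_eq _, bot_sup_eq _⟩
  · exact ⟨⊥, fun a x hx => by rw [(AddSubgroup.mem_bot).mp hx, smul_zero]; exact zero_mem _,
      inf_bot_eq _, top_sup_eq _⟩

/-- A subgroup of odd order of `GL₃(3)` irreducible on the natural module has order at most `117`. -/
theorem ne_351 {A : Type v} [Group A] [Finite A] {V : Type w} [AddCommGroup V] [Finite V]
    [DistribMulAction A V] [FaithfulSMul A V] (hirr : Irred A V) (hV : Nat.card V = 27) :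
    Nat.card A ≠ 351 := by
  intro hA
  classical
  haveI : Fact (Nat.Prime 13) := ⟨by norm_num⟩
  haveI : Fact (Nat.Prime 3) := ⟨Nat.prime_three⟩
  have hV3 : IsPGroup 3 (Multiplicative V) :=
    IsPGroup.of_card (n := 3) ((Nat.card_congr Multiplicative.toAdd).trans hV)
  let P : Sylow 13 A := default
  have hPc : Nat.card P = 13 := by
    rw [P.card_eq_multiplicity, hA, show (351 : ℕ) = 13 ^ 1 * 27 by norm_num,
      Nat.factorization_mul (by norm_num) (by norm_num), Finsupp.add_apply,
      Nat.Prime.factorization_pow (by norm_num), Finsupp.single_eq_same,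
      Nat.factorization_eq_zero_of_not_dvd (by norm_num)]
    norm_num
  have hidx : (P : Subgroup A).index = 27 := by
    have := (P : Subgroup A).card_mul_index
    rw [hPc, hA] at this; omega
  by_cases hn : Nat.card (Sylow 13 A) = 1
  · haveI : Subsingleton (Sylow 13 A) := (Nat.card_eq_one_iff_unique.mp hn).1
    haveI hPn : (P : Subgroup A).Normal := P.normal_of_subsingleton
    haveI : IsCyclic P := isCyclic_of_prime_card hPc
    let c : A →* MulAut P := MulAut.conjNormal
    have h3 : c.ker.index ∣ 3 := by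
      have h12 : Nat.card (MulAut P) = 12 := by
        rw [IsCyclic.card_mulAut, hPc, Nat.totient_prime (by norm_num)]
      have h1 : c.ker.index ∣ 12 := by
        rw [Subgroup.index_ker, ← h12]; exact Subgroup.card_subgroup_dvd_card _
      have h2 : c.ker.index ∣ 351 := hA ▸ Subgroup.index_dvd_card _
      simpa using Nat.dvd_gcd h1 h2
    have hker : 3 ∣ Nat.card c.ker := by
      have h := c.ker.card_mul_index
      rw [hA] at h
      rcases (Nat.dvd_prime Nat.prime_three).mp h3 with e | e <;> rw [e] at h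
      · rw [show Nat.card c.ker = 351 by omega]; norm_num
      · rw [show Nat.card c.ker = 117 by omega]; norm_num
    obtain ⟨x, hx⟩ := exists_prime_orderOf_dvd_card' 3 hker
    have hx1 : (x : A) ≠ 1 := fun e => by
      rw [← Subgroup.orderOf_coe, e, orderOf_one] at hx; norm_num at hx
    -- the fixed points of `P` are trivial
    have hfP : ∀ v : V, (∀ g : P, (g : A) • v = v) → v = 0 := by
      intro v hv
      by_contra hv0
      have htriv := pgroup_fixed_top (A := A) (V := V) hirr (P : Subgroup A) v hv0 fun n hn => hv ⟨n, hn⟩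
      obtain ⟨g, hg, hg1⟩ := (P : Subgroup A).bot_or_exists_ne_one.resolve_left (fun h => by
        rw [h, Subgroup.card_bot] at hPc; norm_num at hPc)
      exact hg1 (eq_of_smul_eq_smul fun y : V => (htriv g hg y).trans (one_smul A y).symm)
    set F := fixedSub V (x : A) with hF
    have hcomm : ∀ g : P, (g : A) * x = x * g := fun g => by
      have h := congrArg Subtype.val (DFunLike.congr_fun (MonoidHom.mem_ker.mp x.2) g)
      change (x : A) * g * (x : A)⁻¹ = g at h
      exact (mul_inv_eq_iff_eq_mul.mp h).symm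
    letI : MulAction P F :=
      { smul := fun g v => ⟨(g : A) • v.1, mem_fixedSub.mpr (by
          rw [← mul_smul, ← hcomm g, mul_smul, mem_fixedSub.mp v.2])⟩
        one_smul := fun v => Subtype.ext (one_smul A v.1)
        mul_smul := fun g h v => Subtype.ext (mul_smul (g : A) (h : A) v.1) }
    have hmod := P.2.card_modEq_card_fixedPoints F
    have hfix : MulAction.fixedPoints P F = {0} := by
      ext v
      refine ⟨fun hv => Subtype.ext (hfP v.1 fun g => congrArg Subtype.val (hv g)), ?_⟩
      rintro rfl g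
      exact Subtype.ext (smul_zero (g : A))
    rw [hfix, Nat.card_eq_fintype_card (α := ({0} : Set F)), Set.card_singleton] at hmod
    have hF1 : 1 < Nat.card F := by
      let Z := Subgroup.zpowers (x : A)
      have hZ : IsPGroup 3 Z := IsPGroup.of_card (n := 1) (by
        rw [Nat.card_zpowers, Subgroup.orderOf_coe, hx, pow_one])
      obtain ⟨w, hw, hw0⟩ := hZ.exists_fixed_point_of_prime_dvd_card_of_fixed_point V
        (by rw [hV]; norm_num) (a := (0 : V)) (fun g => smul_zero (g : A))
      haveI : Nontrivial F := ⟨⟨⟨w, hw ⟨(x : A), Subgroup.mem_zpowers _⟩⟩, 0,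
        fun e => hw0 (congrArg Subtype.val e).symm⟩⟩
      exact Finite.one_lt_card
    obtain ⟨j, hj, hj'⟩ := (Nat.dvd_prime_pow Nat.prime_three).mp
      (show Nat.card F ∣ 3 ^ 3 from (AddSubgroup.card_addSubgroup_dvd_card F).trans (by rw [hV]; norm_num))
    have hj3 : j = 3 := by
      rw [hj'] at hmod hF1
      interval_cases j <;> simp_all [Nat.ModEq]
    have htop : F = ⊤ := AddSubgroup.eq_top_of_card_eq _ (by rw [hj', hj3, hV]; norm_num)
    exact hx1 (eq_of_smul_eq_smul fun y : V =>
      (mem_fixedSub.mp (show y ∈ F by rw [htop]; exact AddSubgroup.mem_top y)).trans (one_smul A y).symm)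
  · have hn27 : Nat.card (Sylow 13 A) = 27 := by
      have h1 : Nat.card (Sylow 13 A) ∣ 3 ^ 3 := (P.card_dvd_index).trans (by rw [hidx]; norm_num)
      have h2 := card_sylow_modEq_one 13 A
      obtain ⟨j, hj, hj'⟩ := (Nat.dvd_prime_pow Nat.prime_three).mp h1
      rw [hj'] at h2 hn ⊢
      interval_cases j <;> simp_all [Nat.ModEq]
    haveI : IsCyclic P := isCyclic_of_prime_card hPc
    have hN : Subgroup.normalizer ((P : Subgroup A) : Set A) = P := by
      refine (Subgroup.eq_of_le_of_card_ge Subgroup.le_normalizer (le_of_eq ?_)).symm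
      have h := (Subgroup.normalizer ((P : Subgroup A) : Set A)).card_mul_index
      rw [show (Subgroup.normalizer ((P : Subgroup A) : Set A)).index = 27 from
        P.card_eq_index_normalizer.symm.trans hn27, hA] at h
      show Nat.card ↥(Subgroup.normalizer ((P : Subgroup A) : Set A)) = Nat.card P
      rw [hPc]
      omega
    have hNC : Subgroup.normalizer ((P : Subgroup A) : Set A) ≤
        Subgroup.centralizer ((P : Subgroup A) : Set A) := by
      rw [hN]
      intro g hg
      rw [Subgroup.mem_centralizer_iff]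
      intro h hh
      letI : CommGroup P := IsCyclic.commGroup
      exact congrArg Subtype.val (mul_comm (⟨h, hh⟩ : P) ⟨g, hg⟩)
    have hcompl := MonoidHom.ker_transferSylow_isComplement' P hNC
    set N := (MonoidHom.transferSylow P hNC).ker
    have hNc : Nat.card N = 27 := by
      have := hcompl.card_mul_card
      rw [hA, hPc] at this; omega
    have htriv := pgroup_trivial hV3 (complRed_of_irred hirr) N
      (IsPGroup.of_card (n := 3) (by rw [hNc]; norm_num))
    obtain ⟨g, hg, hg1⟩ := N.bot_or_exists_ne_one.resolve_left (fun h => by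
      rw [h, Subgroup.card_bot] at hNc; norm_num at hNc)
    exact hg1 (eq_of_smul_eq_smul fun y : V => (htriv g hg y).trans (one_smul A y).symm)
where
  /-- A normal subgroup fixing a non-zero vector of an irreducible module acts trivially. -/
  pgroup_fixed_top {A : Type v} [Group A] {V : Type w} [AddCommGroup V] [DistribMulAction A V]
      (hirr : Irred A V) (N : Subgroup A) [N.Normal] (v : V) (hv0 : v ≠ 0)
      (hv : ∀ n ∈ N, n • v = v) : ∀ n ∈ N, ∀ y : V, n • y = y := by
    let F : AddSubgroup V :=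
      { carrier := {x | ∀ n ∈ N, n • x = x}
        zero_mem' := fun n _ => smul_zero n
        add_mem' := fun {x y} hx hy n hn => by rw [smul_add, hx n hn, hy n hn]
        neg_mem' := fun {x} hx n hn => by rw [smul_neg, hx n hn] }
    rcases hirr F (fun a x hx n hn => by
      have h := hx (a⁻¹ * n * a) (by simpa using Subgroup.Normal.conj_mem (H := N) inferInstance n hn a⁻¹)
      rw [mul_smul, mul_smul, inv_smul_eq_iff] at h
      exact h) with h | h
    · exact absurd ((AddSubgroup.mem_bot).mp (h ▸ hv : v ∈ (⊥ : AddSubgroup V))) hv0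
    · exact fun n hn y => (h ▸ AddSubgroup.mem_top y : y ∈ F) n hn

/-- The linear bounds follow from the statement on pairs. -/
theorem linOK_of_twoOK {n : ℕ} (h : TwoOK.{u} n) : LinOK.{u} n := by
  intro A _ _ W _ _ φ hφ hs hodd hW hn hel hirr
  classical
  letI : DistribMulAction A (Additive W) :=
    { smul := fun a x => Additive.ofMul (φ a x.toMul)
      one_smul := fun x => by
        show Additive.ofMul (φ 1 x.toMul) = x
        rw [map_one]; rfl
      mul_smul := fun a b x => by
        show Additive.ofMul (φ (a * b) x.toMul) = Additive.ofMul (φ a (φ b x.toMul))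
        rw [map_mul]; rfl
      smul_zero := fun a => congrArg Additive.ofMul (map_one (φ a))
      smul_add := fun a x y => congrArg Additive.ofMul (map_mul (φ a) x.toMul y.toMul) }
  haveI : FaithfulSMul A (Additive W) :=
    ⟨fun {a b} e => hφ (MulEquiv.ext fun x => Additive.ofMul.injective (e (Additive.ofMul x)))⟩
  have hV : Nat.card (Additive W) = n := hW
  have hirr' : Irred A (Additive W) := fun U hU => by
    rcases hirr U.toSubgroup' (fun a u hu => hU a (Additive.ofMul u) hu) with e | e
    · left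
      ext x
      exact ⟨fun hx => Additive.toMul.injective (Subgroup.mem_bot.mp (e ▸ hx : x.toMul ∈ (⊥ : Subgroup W))),
        fun hx => by rw [(AddSubgroup.mem_bot).mp hx]; exact zero_mem U⟩
    · right
      ext x
      exact ⟨fun _ => AddSubgroup.mem_top _, fun _ => (e ▸ Subgroup.mem_top x.toMul : x.toMul ∈ U.toSubgroup')⟩
  have hle : Nat.card A ≤ n ^ 2 := hV ▸ card_le_of_two (h A (Additive W) hs hodd hV hn hirr')
  have haut : ∀ (s r : ℕ), s.Prime → 0 < r → n = s ^ r →
      Nat.card A ∣ ∏ i ∈ Finset.range r, (s ^ r - s ^ i) := by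
    intro s r hsp hr hsr
    haveI := Fact.mk hsp
    obtain ⟨q, hq, hexp⟩ := hel
    obtain ⟨w, hw⟩ := exists_prime_orderOf_dvd_card' (G := W) s
      (by rw [hW, hsr]; exact dvd_pow_self _ hr.ne')
    have hqs : s = q := (Nat.prime_dvd_prime_iff_eq hsp hq).mp (hw ▸ orderOf_dvd_of_pow_eq_one (hexp w))
    rw [← GroupStructure3.FrattiniAut.card_mulAut_elementary (p := s) (hW.trans hsr) (hqs ▸ hexp)]
    exact Subgroup.card_dvd_of_injective φ hφ
  have hdvd : ∀ {a b : ℕ}, Nat.card A ∣ 2 ^ a * b → Nat.card A ∣ b := fun {a b} hd =>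
    (Nat.Coprime.pow_right a hodd.coprime_two_right).dvd_of_dvd_mul_left hd
  refine ⟨hle, fun hp => ?_, fun h9 => ?_, fun h25 => ?_, fun h27 => ?_⟩
  · have := haut n 1 hp one_pos (pow_one n).symm
    simpa using this
  · have := haut 3 2 Nat.prime_three two_pos (h9.trans (by norm_num))
    norm_num [Finset.prod_range_succ] at this
    exact Nat.le_of_dvd (by norm_num) (hdvd (a := 4) (b := 3) this)
  · have := haut 5 2 (by norm_num) two_pos (h25.trans (by norm_num))
    norm_num [Finset.prod_range_succ] at this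
    exact Nat.le_of_dvd (by norm_num) (hdvd (a := 5) (b := 15) this)
  · have := haut 3 3 Nat.prime_three (by norm_num) (h27.trans (by norm_num))
    norm_num [Finset.prod_range_succ] at this
    have h351 := hdvd (a := 5) (b := 351) this
    obtain ⟨c, hc⟩ := h351
    have hne := ne_351 hirr' (hV.trans h27)
    rcases (by omega : c = 0 ∨ c = 1 ∨ c = 2 ∨ 3 ≤ c) with rfl | rfl | rfl | h3
    · omega
    · omega
    · omega
    · nlinarith

end Cfsg.Agent.GStructB.OddBase
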