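import Cfsg.Agent.GStructB.OddBase.CR

/-!
# Abelian normal subgroups of irreducible groups

Either the ring generated by an abelian normal subgroup is a field, or the torsion subgroups of its
maximal ideals form a system of imprimitivity.
-/

set_option autoImplicit false
set_option linter.style.haveILetI false
set_option linter.unusedSectionVars false

open MulAction

namespace Cfsg.Agent.GStructB.OddBase

universe u

open scoped Pointwise

variable {A : Type u} [Group A] [Finite A] (V : Type u) [AddCommGroup V] [Finite V]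
  [DistribMulAction A V]

/-- The ring of endomorphisms generated by a subgroup. -/
def genRing (B : Subgroup A) : Subring (AddMonoid.End V) :=
  Subring.closure (DistribMulAction.toAddMonoidEnd A V '' (B : Set A))

variable {V}

theorem genRing_comm {B : Subgroup A} (hB : ∀ x ∈ B, ∀ y ∈ B, x * y = y * x)
    (r s : genRing V B) : r * s = s * r := by
  refine Subtype.ext ?_
  have hle : genRing V B ≤ Subring.centralizer (genRing V B : Set (AddMonoid.End V)) := by
    rw [genRing, Subring.closure_le]
    rintro _ ⟨x, hx, rfl⟩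
    refine Subring.mem_centralizer_iff.mpr fun f hf => ?_
    induction hf using Subring.closure_induction with
    | mem f hf =>
      obtain ⟨y, hy, rfl⟩ := hf
      rw [← map_mul, ← map_mul, hB y hy x hx]
    | zero => rw [zero_mul, mul_zero]
    | one => rw [one_mul, mul_one]
    | add f g _ _ hf hg => rw [add_mul, mul_add, hf, hg]
    | neg f _ hf => rw [neg_mul, mul_neg, hf]
    | mul f g _ _ hf hg => rw [mul_assoc, hg, ← mul_assoc, hf, mul_assoc]
  exact Subring.mem_centralizer_iff.mp (hle s.2) r.1 r.2

/-- Conjugation by `g` on endomorphisms. -/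
def conjEnd (g : A) : AddMonoid.End V →+* AddMonoid.End V where
  toFun f := DistribMulAction.toAddMonoidEnd A V g * f * DistribMulAction.toAddMonoidEnd A V g⁻¹
  map_one' := by rw [mul_one, ← map_mul, mul_inv_cancel, map_one]
  map_mul' f f' := by
    have h : DistribMulAction.toAddMonoidEnd A V g⁻¹ * DistribMulAction.toAddMonoidEnd A V g = 1 := by
      rw [← map_mul, inv_mul_cancel, map_one]
    simp only [mul_assoc]
    rw [← mul_assoc (DistribMulAction.toAddMonoidEnd A V g⁻¹) (DistribMulAction.toAddMonoidEnd A V g),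
      h, one_mul]
  map_zero' := by rw [mul_zero, zero_mul]
  map_add' f f' := by rw [mul_add, add_mul]

theorem conjEnd_apply (g : A) (f : AddMonoid.End V) (x : V) :
    conjEnd g f x = g • f (g⁻¹ • x) := rfl

theorem conjEnd_inv (g : A) (f : AddMonoid.End V) : conjEnd g⁻¹ (conjEnd g f) = f :=
  AddMonoidHom.ext fun x => by
    show g⁻¹ • g • f (g⁻¹ • g⁻¹⁻¹ • x) = f x
    rw [inv_inv, inv_smul_smul, inv_smul_smul]

theorem conjEnd_mem (B : Subgroup A) [B.Normal] (g : A) :
    ∀ f ∈ genRing V B, conjEnd g f ∈ genRing V B := by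
  intro f hf
  suffices h : genRing V B ≤ (genRing V B).comap (conjEnd g) from h hf
  rw [genRing, Subring.closure_le]
  rintro _ ⟨x, hx, rfl⟩
  refine Subring.subset_closure ⟨g * x * g⁻¹, Subgroup.Normal.conj_mem inferInstance x hx g, ?_⟩
  show DistribMulAction.toAddMonoidEnd A V (g * x * g⁻¹) = DistribMulAction.toAddMonoidEnd A V g *
    DistribMulAction.toAddMonoidEnd A V x * DistribMulAction.toAddMonoidEnd A V g⁻¹
  rw [map_mul, map_mul]

/-- Conjugation by `g` on the generated ring. -/
def conjRing (B : Subgroup A) [B.Normal] (g : A) : genRing V B →+* genRing V B :=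
  ((conjEnd g).comp (genRing V B).subtype).codRestrict (genRing V B)
    fun r => conjEnd_mem B g r.1 r.2

variable [FaithfulSMul A V]

/-- The ring generated by an abelian normal subgroup is a field unless the group is imprimitive. -/
theorem field_or_two (hs : Group.IsSolvable A) (hodd : Odd (Nat.card A))
    (hlin : ∀ m < Nat.card V, LinOK.{u} m) (ih : ∀ m < Nat.card V, TwoOK.{u} m)
    (hirr : Irred A V) (hV1 : 1 < Nat.card V) (B : Subgroup A) [B.Normal]
    (hB : ∀ x ∈ B, ∀ y ∈ B, x * y = y * x) : TwoPairs A V ∨ IsField (genRing V B) := by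
  classical
  letI : CommRing (genRing V B) :=
    { (inferInstance : Ring (genRing V B)) with mul_comm := genRing_comm hB }
  haveI : Nontrivial V := Finite.one_lt_card_iff_nontrivial.mp hV1
  obtain ⟨x₀, hx₀⟩ := exists_ne (0 : V)
  obtain ⟨v, hv0, hvmin⟩ := Set.Finite.exists_minimalFor
    (fun v : V => Nat.card (Set.range fun r : genRing V B => r.1 v)) {v : V | v ≠ 0} (Set.toFinite _)
    ⟨x₀, hx₀⟩
  let P : Ideal (genRing V B) :=
    { carrier := {r | r.1 v = 0}
      zero_mem' := rfl
      add_mem' := fun {r s} (hr : r.1 v = 0) (hs : s.1 v = 0) => by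
        show r.1 v + s.1 v = 0
        rw [hr, hs, add_zero]
      smul_mem' := fun c r (hr : r.1 v = 0) => by
        show c.1 (r.1 v) = 0
        rw [hr, map_zero] }
  have hPmax : P.IsMaximal := by
    refine Ideal.isMaximal_iff.mpr ⟨fun h => hv0 h, fun I r hPI hr hrI => ?_⟩
    set rv := r.1 v with hrv
    have hsub : (Set.range fun s : genRing V B => s.1 rv) ⊆ Set.range fun s : genRing V B => s.1 v := by
      rintro _ ⟨s, rfl⟩
      exact ⟨s * r, rfl⟩
    have hle := hvmin (j := rv) hr (Nat.card_mono (Set.toFinite _) hsub)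
    have heq := Set.eq_of_subset_of_ncard_le hsub
      (by rw [← Nat.card_coe_set_eq, ← Nat.card_coe_set_eq]; exact hle) (Set.toFinite _)
    obtain ⟨s, hs⟩ := (heq ▸ ⟨1, rfl⟩ : v ∈ Set.range fun s : genRing V B => s.1 rv)
    have hmem : 1 - s * r ∈ P := by
      show v - s.1 (r.1 v) = 0
      rw [sub_eq_zero]; exact hs.symm
    have := I.add_mem (hPI hmem) (I.mul_mem_left s hrI)
    rwa [sub_add_cancel] at this
  let T : AddSubgroup V :=
    { carrier := {x | ∀ r ∈ P, r.1 x = 0}
      zero_mem' := fun r _ => map_zero r.1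
      add_mem' := fun {x y} hx hy r hr => by rw [map_add, hx r hr, hy r hr, add_zero]
      neg_mem' := fun {x} hx r hr => by rw [map_neg, hx r hr, neg_zero] }
  have hvT : v ∈ T := fun r hr => hr
  by_cases hmove : ∃ a : A, a • T ≠ T
  · refine Or.inl (imprimitive hs hodd hlin ih hirr T (fun h => hv0 ?_) ?_ hmove)
    · exact (AddSubgroup.mem_bot).mp (h ▸ hvT : v ∈ (⊥ : AddSubgroup V))
    -- independence of the translates
    intro U
    rw [AddSubgroup.disjoint_def]
    intro x hx hx'
    have hq : ∀ W : MulAction.orbit A T, ∃ g : A, g • T = W := fun W => mem_orbit_iff.mp W.2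
    choose t ht using hq
    let Q : MulAction.orbit A T → Ideal (genRing V B) := fun W => P.comap (conjRing B (t W)⁻¹)
    have hkill : ∀ W : MulAction.orbit A T, ∀ y ∈ (W : AddSubgroup V), ∀ r ∈ Q W, r.1 y = 0 := by
      intro W y hy r hr
      rw [← ht W] at hy
      obtain ⟨z, hz, rfl⟩ := hy
      have h := hz _ (show conjRing B (t W)⁻¹ r ∈ P from hr)
      change (t W)⁻¹ • r.1 ((t W)⁻¹⁻¹ • z) = 0 at h
      rw [inv_inv, inv_smul_eq_iff, smul_zero] at h
      exact h
    have hmem : ∀ W : MulAction.orbit A T, ∀ y : V, (∀ r ∈ Q W, r.1 y = 0) → y ∈ (W : AddSubgroup V) := by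
      intro W y hy
      rw [← ht W]
      refine ⟨(t W)⁻¹ • y, fun r hr => ?_, smul_inv_smul _ _⟩
      have h := hy (conjRing B (t W) r) (by
        show conjRing B (t W)⁻¹ (conjRing B (t W) r) ∈ P
        rwa [show conjRing B (t W)⁻¹ (conjRing B (t W) r) = r from Subtype.ext (conjEnd_inv _ _)])
      change t W • r.1 ((t W)⁻¹ • y) = 0 at h
      rwa [smul_eq_zero_iff_eq] at h
    haveI hQmax : ∀ W, (Q W).IsMaximal := fun W => by
      haveI := hPmax
      refine Ideal.comap_isMaximal_of_surjective _ fun r =>
        ⟨conjRing B (t W) r, Subtype.ext (conjEnd_inv _ _)⟩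
    -- an element congruent to one on `U` killing all others
    have hsep : ∀ W : MulAction.orbit A T, W ≠ U → ∃ r ∈ Q W, (r : genRing V B).1 x = x := by
      intro W hW
      have hne : ¬ Q W ≤ Q U := by
        intro h
        refine hW (Subtype.ext (le_antisymm ?_ ?_))
        · exact fun y hy => hmem U y fun r hr => hkill W y hy r
            ((hQmax W).eq_of_le (hQmax U).ne_top h ▸ hr)
        · exact fun y hy => hmem W y fun r hr => hkill U y hy r (h hr)
      obtain ⟨r, hrW, hrU⟩ := Set.not_subset.mp hne
      have h1 := (Ideal.isMaximal_iff.mp (hQmax U)).2 (Q U ⊔ Ideal.span {r}) r le_sup_left hrU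
        (Ideal.mem_sup_right (Ideal.subset_span rfl))
      obtain ⟨q, hq, z, hz, e⟩ := Submodule.mem_sup.mp h1
      refine ⟨z, (Ideal.span_singleton_le_iff_mem (Q W)).mpr hrW hz, ?_⟩
      have := congrArg (fun f : genRing V B => f.1 x) e
      change q.1 x + z.1 x = x at this
      rwa [hkill U x hx q hq, zero_add] at this
    choose r hr hrx using hsep
    haveI : Fintype (MulAction.orbit A T) := Fintype.ofFinite _
    let F : Finset (MulAction.orbit A T) := Finset.univ.erase U
    let f : MulAction.orbit A T → genRing V B := fun W => if h : W = U then 1 else r W h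
    have hprod : ∀ G : Finset (MulAction.orbit A T), U ∉ G → (∏ W ∈ G, f W).1 x = x := by
      intro G
      induction G using Finset.induction_on with
      | empty => intro; rfl
      | insert W G hW ihG =>
        intro hU
        rw [Finset.prod_insert hW]
        show (f W).1 ((∏ W ∈ G, f W).1 x) = x
        rw [ihG (fun h => hU (Finset.mem_insert_of_mem h))]
        have hWU : W ≠ U := fun h => hU (h ▸ Finset.mem_insert_self W G)
        simp only [f, dif_neg hWU]
        exact hrx W hWU
    have hker : (⨆ (W : MulAction.orbit A T) (_ : W ≠ U), (W : AddSubgroup V)) ≤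
        (AddMonoidHom.ker (∏ W ∈ F, f W).1 : AddSubgroup V) := by
      refine iSup₂_le fun W hW y hy => AddMonoidHom.mem_ker.mpr ?_
      rw [← Finset.prod_erase_mul F f (Finset.mem_erase.mpr ⟨hW, Finset.mem_univ W⟩)]
      show (∏ W' ∈ F.erase W, f W').1 ((f W).1 y) = 0
      rw [hkill W y hy (f W) (by simp only [f, dif_neg hW]; exact hr W hW), map_zero]
    rw [← hprod F (Finset.notMem_erase U _)]
    exact AddMonoidHom.mem_ker.mp (hker hx')
  · push Not at hmove
    have hTtop : T = ⊤ := by
      refine (hirr T fun a x hx => ?_).resolve_left fun h =>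
        hv0 ((AddSubgroup.mem_bot).mp (h ▸ hvT : v ∈ (⊥ : AddSubgroup V)))
      exact hmove a ▸ AddSubgroup.smul_mem_pointwise_smul x a T hx
    have hPbot : P = ⊥ := eq_bot_iff.mpr fun r hr => Subtype.ext (AddMonoidHom.ext fun x =>
      (show x ∈ T by rw [hTtop]; exact AddSubgroup.mem_top x) r hr)
    haveI : Nontrivial (genRing V B) := ⟨⟨1, 0, fun h => hv0 (congrArg (fun f : genRing V B => f.1 v) h)⟩⟩
    exact Or.inr (Ring.isField_iff_maximal_bot.mpr (hPbot ▸ hPmax))

end Cfsg.Agent.GStructB.OddBase
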