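import Cfsg.Agent.GStructB.OddBase.Field

/-!
# Bounds on fixed points
-/

set_option autoImplicit false
set_option linter.style.haveILetI false
set_option linter.unusedSectionVars false

namespace Cfsg.Agent.GStructB.OddBase

universe u v w

variable {A : Type v} [Group A] {V : Type w} [AddCommGroup V] [Finite V] [DistribMulAction A V]

/-- Fixed points of two elements and of a third fixed by both. -/
theorem card_fixed_mul (x y z : A)
    (h : ∀ v : V, x • v = v → y • v = v → z • v = v) :
    Nat.card (fixedSub V x) * Nat.card (fixedSub V y) ≤ Nat.card V * Nat.card (fixedSub V z) := by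
  set F := fixedSub V x
  set F' := fixedSub V y
  let s : F × F' →+ V :=
    { toFun := fun p => (p.1 : V) - p.2
      map_zero' := sub_self _
      map_add' := fun p q => by
        show ((p.1 : V) + q.1) - (p.2 + q.2) = (p.1 - p.2) + (q.1 - q.2)
        abel }
  have hker : Nat.card s.ker ≤ Nat.card (fixedSub V z) := by
    refine Nat.card_le_card_of_injective (fun p => ⟨p.1.1.1, ?_⟩) ?_
    · have e : (p.1.1 : V) = p.1.2 := sub_eq_zero.mp p.2
      exact h _ p.1.1.2 (e ▸ p.1.2.2)
    · intro p q e
      have e1 : (p.1.1 : V) = q.1.1 := (congrArg Subtype.val e :)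
      exact Subtype.ext (Prod.ext (Subtype.ext e1) (Subtype.ext
        ((sub_eq_zero.mp p.2).symm.trans (e1.trans (sub_eq_zero.mp q.2)))))
  calc Nat.card F * Nat.card F' = Nat.card s.ker * s.ker.index := by
        rw [AddSubgroup.card_mul_index, Nat.card_prod]
    _ ≤ Nat.card (fixedSub V z) * Nat.card V := by
        refine Nat.mul_le_mul hker ?_
        rw [AddSubgroup.index_ker]
        exact Nat.card_le_card_of_injective _ s.range.subtype_injective
    _ = _ := mul_comm _ _

/-- A tripling of the fixed points. -/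
theorem card_fixed_cube (g : A) (p q : V →+ V)
    (h : ∀ a b c : V, g • a = a → g • b = b → g • c = c → a + p b + q c = 0 →
      a = 0 ∧ b = 0 ∧ c = 0) :
    Nat.card (fixedSub V g) ^ 3 ≤ Nat.card V := by
  set F := fixedSub V g
  calc Nat.card F ^ 3 = Nat.card (F × F × F) := by rw [Nat.card_prod, Nat.card_prod]; ring
    _ ≤ Nat.card V := by
      refine Nat.card_le_card_of_injective (fun t => (t.1 : V) + p t.2.1 + q t.2.2) ?_
      intro s t e
      obtain ⟨h1, h2, h3⟩ := h ((s.1 - t.1 : F) : V) ((s.2.1 - t.2.1 : F) : V) ((s.2.2 - t.2.2 : F) : V)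
        (s.1 - t.1).2 (s.2.1 - t.2.1).2 (s.2.2 - t.2.2).2 (by
          simp only [AddSubgroup.coe_sub, map_sub]
          have e' : (s.1 : V) + p s.2.1 + q s.2.2 = t.1 + p t.2.1 + q t.2.2 := e
          rw [show ((s.1 : V) - t.1) + (p s.2.1 - p t.2.1) + (q s.2.2 - q t.2.2) =
            ((s.1 : V) + p s.2.1 + q s.2.2) - (t.1 + p t.2.1 + q t.2.2) by abel, e', sub_self])
      exact Prod.ext (sub_eq_zero.mp (Subtype.ext h1)) (Prod.ext (sub_eq_zero.mp (Subtype.ext h2))
        (sub_eq_zero.mp (Subtype.ext h3)))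

/-- An element inducing three distinct conjugates of a scalar. -/
theorem card_fixed_semilinear {K : Type u} [Field K] [Module K V] (g : A) (σ : K → K)
    (hσ : ∀ (k : K) (v : V), g • (k • v) = σ k • g • v) (k : K) (h1 : k ≠ σ k) (h2 : k ≠ σ (σ k))
    (h3 : σ k ≠ σ (σ k)) : Nat.card (fixedSub V g) ^ 3 ≤ Nat.card V := by
  refine card_fixed_cube g (DistribSMul.toAddMonoidHom V k) (DistribSMul.toAddMonoidHom V (k * k))
    fun a b c ha hb hc e => ?_
  change a + k • b + (k * k) • c = 0 at e
  have step : ∀ k : K, a + k • b + (k * k) • c = 0 → a + σ k • b + (σ k * σ k) • c = 0 := by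
    intro k e
    have := congrArg (g • ·) e
    simp only [smul_add, smul_zero, mul_smul, hσ, ha, hb, hc] at this
    rw [mul_smul]; exact this
  have e1 := step k e
  have e2 := step _ e1
  have sub : ∀ x y : K, x ≠ y → a + x • b + (x * x) • c = 0 → a + y • b + (y * y) • c = 0 →
      b + (x + y) • c = 0 := by
    intro x y hxy ex ey
    have : (x - y) • (b + (x + y) • c) = (a + x • b + (x * x) • c) - (a + y • b + (y * y) • c) := by
      module
    rw [ex, ey, sub_zero, smul_eq_zero] at this
    exact this.resolve_left (sub_ne_zero.mpr hxy)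
  have f1 := sub _ _ h1 e e1
  have f2 := sub _ _ h2 e e2
  have hc0 : c = 0 := by
    have : (σ k - σ (σ k)) • c = (b + (k + σ k) • c) - (b + (k + σ (σ k)) • c) := by module
    rw [f1, f2, sub_zero, smul_eq_zero] at this
    exact this.resolve_left (sub_ne_zero.mpr h3)
  subst hc0
  rw [smul_zero, add_zero] at f1
  subst f1
  rw [smul_zero, smul_zero, add_zero, add_zero] at e
  exact ⟨e, rfl, rfl⟩

/-- An element and a partner with a scalar commutator. -/
theorem card_fixed_twist {K : Type u} [Field K] [Module K V] (g m : A) (ζ : K)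
    (hlin : ∀ (k : K) (v : V), g • (k • v) = k • g • v)
    (hm : ∀ (k : K) (v : V), m • (k • v) = k • m • v)
    (hcomm : ∀ v : V, g • m • v = ζ • m • g • v) (h1 : ζ ≠ 1) (h2 : ζ * ζ ≠ 1) (h0 : ζ ≠ 0) :
    Nat.card (fixedSub V g) ^ 3 ≤ Nat.card V := by
  refine card_fixed_cube g (DistribSMul.toAddMonoidHom V m)
    ((DistribSMul.toAddMonoidHom V m).comp (DistribSMul.toAddMonoidHom V m))
    fun a b c ha hb hc e => ?_
  change a + m • b + m • m • c = 0 at e
  have hu : g • m • b = ζ • m • b := by rw [hcomm, hb]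
  have hw : g • m • m • c = (ζ * ζ) • m • m • c := by rw [hcomm, hcomm, hc, hm, mul_smul]
  have e1 : a + ζ • m • b + (ζ * ζ) • m • m • c = 0 := by
    have := congrArg (g • ·) e
    simpa only [smul_add, smul_zero, ha, hu, hw] using this
  have e2 : a + (ζ * ζ) • m • b + (ζ * ζ * (ζ * ζ)) • m • m • c = 0 := by
    have := congrArg (g • ·) e1
    simpa only [smul_add, smul_zero, ha, hlin, hu, hw, ← mul_smul (α := K)] using this
  have hw0 : (ζ * (ζ - 1) * (ζ * ζ - 1)) • m • m • c =
      ((a + (ζ * ζ) • m • b + (ζ * ζ * (ζ * ζ)) • m • m • c) - (a + ζ • m • b + (ζ * ζ) • m • m • c))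
        - ζ • ((a + ζ • m • b + (ζ * ζ) • m • m • c) - (a + m • b + m • m • c)) := by
    generalize m • m • c = w
    generalize m • b = u
    module
  rw [e, e1, e2, sub_self, smul_zero, sub_zero, smul_eq_zero] at hw0
  have hc0 : c = 0 := by
    have := hw0.resolve_left (mul_ne_zero (mul_ne_zero h0 (sub_ne_zero.mpr h1)) (sub_ne_zero.mpr h2))
    rwa [smul_eq_zero_iff_eq, smul_eq_zero_iff_eq] at this
  subst hc0
  simp only [smul_zero, add_zero] at e e1
  have hb0 : (ζ - 1) • (m • b) = (a + ζ • (m • b)) - (a + m • b) := by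
    generalize m • b = u
    module
  rw [e, e1, sub_zero, smul_eq_zero] at hb0
  have := hb0.resolve_left (sub_ne_zero.mpr h1)
  rw [smul_eq_zero_iff_eq] at this
  subst this
  exact ⟨by simpa using e, rfl, rfl⟩

end Cfsg.Agent.GStructB.OddBase
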