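import Cfsg.Agent.GStructB.OddBase.Power

/-!
# The regular step and the induction for odd permutation groups
-/

set_option autoImplicit false
set_option linter.style.haveILetI false
set_option linter.unusedSectionVars false

open MulAction

namespace Cfsg.Agent.GStructB.OddBase

universe u

/-- A permutation of odd order moving everything outside `f` points has at most `(n + 2 f) / 3`
cycles, so keeps at most `2 ^ ((n + 2 f) / 3)` subsets. -/
theorem card_keeps_le {G X : Type u} [Group G] [Finite G] [Finite X] [MulAction G X] (g : G)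
    (hg : Odd (orderOf g)) :
    Nat.card {S : Set X // Keeps g S} ≤
      2 ^ ((Nat.card X + 2 * Nat.card {x : X // g • x = x}) / 3) := by
  classical
  haveI : Fintype X := Fintype.ofFinite X
  set H := Subgroup.zpowers g
  set Q := orbitRel.Quotient H X
  haveI : Fintype Q := Fintype.ofFinite Q
  let π : X → Q := Quotient.mk''
  -- a kept set is a union of orbits
  have hinv : ∀ S : Set X, Keeps g S → ∀ h : H, ∀ x : X, h • x ∈ S ↔ x ∈ S := by
    intro S hS
    have hpow : ∀ k : ℕ, ∀ x : X, g ^ k • x ∈ S ↔ x ∈ S := by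
      intro k
      induction k with
      | zero => simp
      | succ k ih => intro x; rw [pow_succ', mul_smul, hS, ih]
    rintro ⟨h, hh⟩ x
    obtain ⟨k, rfl⟩ := mem_powers_iff_mem_zpowers.mpr hh
    exact hpow k x
  have h1 : Nat.card {S : Set X // Keeps g S} ≤ Nat.card (Set Q) := by
    refine Nat.card_le_card_of_injective (fun S => π '' S.1) ?_
    intro S T e
    have key : ∀ S : {S : Set X // Keeps g S}, π ⁻¹' (π '' S.1) = S.1 := fun S => by
      ext x
      refine ⟨?_, fun hx => ⟨x, hx, rfl⟩⟩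
      rintro ⟨y, hy, e⟩
      obtain ⟨h, rfl⟩ := orbitRel_apply.mp (Quotient.eq''.mp e)
      exact (hinv S.1 S.2 h x).mp hy
    exact Subtype.ext (by rw [← key S, ← key T]; exact congrArg (π ⁻¹' ·) e)
  refine h1.trans ?_
  rw [show Nat.card (Set Q) = 2 ^ Nat.card Q by
    rw [Nat.card_eq_fintype_card, Fintype.card_set, Nat.card_eq_fintype_card]]
  refine Nat.pow_le_pow_right (by norm_num) ?_
  rw [Nat.le_div_iff_mul_le (by norm_num)]
  -- every orbit has at least three points or is a fixed point
  let fib : Q → Finset X := fun q => Finset.univ.filter fun x => π x = q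
  have hsum : ∑ q, (fib q).card = Fintype.card X :=
    (Finset.card_eq_sum_card_fiberwise fun x _ => Finset.mem_univ (π x)).symm
  have hfix : ∑ q, ((fib q).filter fun x => g • x = x).card = Nat.card {x : X // g • x = x} := by
    rw [Nat.card_eq_fintype_card, Fintype.card_subtype,
      Finset.card_eq_sum_card_fiberwise (f := π) fun x _ => Finset.mem_univ (π x)]
    refine Finset.sum_congr rfl fun q _ => ?_
    congr 1
    ext x
    simp [fib, and_comm]
  have hstep : ∀ q : Q, 3 ≤ (fib q).card + 2 * ((fib q).filter fun x => g • x = x).card := by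
    intro q
    obtain ⟨x, rfl⟩ := Quotient.mk''_surjective q
    have hx : x ∈ fib (π x) := Finset.mem_filter.mpr ⟨Finset.mem_univ _, rfl⟩
    by_cases hgx : g • x = x
    · have h2 : x ∈ (fib (π x)).filter fun x => g • x = x := Finset.mem_filter.mpr ⟨hx, hgx⟩
      have : 1 ≤ ((fib (π x)).filter fun x => g • x = x).card := Finset.card_pos.mpr ⟨x, h2⟩
      have : 1 ≤ (fib (π x)).card := Finset.card_pos.mpr ⟨x, hx⟩
      show 3 ≤ (fib (π x)).card + 2 * ((fib (π x)).filter fun x => g • x = x).card
      omega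
    · have hmem : ∀ h : H, h • x ∈ fib (π x) := fun h => Finset.mem_filter.mpr
        ⟨Finset.mem_univ _, Quotient.eq''.mpr (orbitRel_apply.mpr ⟨h, rfl⟩)⟩
      have hgg : g • g • x ≠ x := by
        intro e
        obtain ⟨k, hk⟩ := hg
        apply hgx
        have h2 : ∀ k : ℕ, g ^ (2 * k) • x = x := by
          intro k
          induction k with
          | zero => simp
          | succ k ih => rw [Nat.mul_succ, pow_add, sq, mul_smul, mul_smul, e, ih]
        calc g • x = g • g ^ (2 * k) • x := by rw [h2]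
          _ = x := by rw [← mul_smul, ← pow_succ', ← hk, pow_orderOf_eq_one, one_smul]
      have hsub : ({x, g • x, g • g • x} : Finset X) ⊆ fib (π x) := by
        intro y hy
        simp only [Finset.mem_insert, Finset.mem_singleton] at hy
        rcases hy with rfl | rfl | rfl
        · exact hx
        · exact hmem ⟨g, Subgroup.mem_zpowers g⟩
        · rw [← mul_smul]
          exact hmem ⟨g * g, mul_mem (Subgroup.mem_zpowers g) (Subgroup.mem_zpowers g)⟩
      have hc : ({x, g • x, g • g • x} : Finset X).card = 3 := by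
        rw [Finset.card_eq_three]
        exact ⟨x, g • x, g • g • x, Ne.symm hgx, hgg.symm,
          fun e => hgx (MulAction.injective g e).symm, rfl⟩
      have := Finset.card_le_card hsub
      show 3 ≤ (fib (π x)).card + 2 * ((fib (π x)).filter fun x => g • x = x).card
      omega
  have := Finset.sum_le_sum (s := (Finset.univ : Finset Q)) fun q _ => hstep q
  rw [Finset.sum_const, Finset.card_univ, smul_eq_mul, Finset.sum_add_distrib, hsum,
    ← Finset.mul_sum, hfix, ← Nat.card_eq_fintype_card, ← Nat.card_eq_fintype_card] at this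
  exact this

/-- If the kept sets are few, some subset has trivial stabilizer. -/
theorem exists_subset {G X : Type u} [Group G] [Finite G] [Finite X] [MulAction G X]
    (hodd : Odd (Nat.card G)) (c : ℕ)
    (hfix : ∀ g : G, g ≠ 1 → Nat.card {x : X // g • x = x} ≤ c)
    (hnum : (Nat.card G - 1) * 2 ^ ((Nat.card X + 2 * c) / 3) < 2 * 2 ^ Nat.card X) :
    ∃ S : Set X, ∀ g : G, Keeps g S → g = 1 := by
  classical
  haveI : Fintype G := Fintype.ofFinite G
  haveI : Fintype X := Fintype.ofFinite X
  by_contra hno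
  push Not at hno
  have h2 : ∀ S : Set X, 2 ≤ ((Finset.univ.erase (1 : G)).filter fun g => Keeps g S).card := by
    intro S
    obtain ⟨g, hg, hg1⟩ := hno S
    have hinv : Keeps g⁻¹ S := fun x => by
      have := hg (g⁻¹ • x)
      rw [smul_inv_smul] at this
      exact this.symm
    have hne : g ≠ g⁻¹ := by
      intro e
      have ho : orderOf g ∣ 2 := orderOf_dvd_of_pow_eq_one (by rw [sq]; exact eq_inv_iff_mul_eq_one.mp e)
      rcases (Nat.dvd_prime Nat.prime_two).mp ho with h | h
      · exact hg1 (orderOf_eq_one_iff.mp h)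
      · exact absurd (hodd.of_dvd_nat (h ▸ orderOf_dvd_natCard g)) (by decide)
    refine Finset.one_lt_card.mpr ⟨g, ?_, g⁻¹, ?_, hne⟩ <;> simp [hg, hinv, hg1]
  have key : Fintype.card (Set X) * 2 ≤ ∑ g ∈ Finset.univ.erase (1 : G),
      (Finset.univ.filter fun S : Set X => Keeps g S).card := by
    calc Fintype.card (Set X) * 2 = ∑ _S : Set X, 2 := by simp
      _ ≤ ∑ S : Set X, ((Finset.univ.erase (1 : G)).filter fun g => Keeps g S).card :=
          Finset.sum_le_sum fun S _ => h2 S
      _ = ∑ g ∈ Finset.univ.erase (1 : G), (Finset.univ.filter fun S : Set X => Keeps g S).card := by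
          simp only [Finset.card_filter]
          exact Finset.sum_comm
  have hle := key.trans (Finset.sum_le_card_nsmul _ _ (2 ^ ((Nat.card X + 2 * c) / 3)) ?_)
  · rw [Fintype.card_set, smul_eq_mul, Finset.card_erase_of_mem (Finset.mem_univ _), Finset.card_univ,
      ← Nat.card_eq_fintype_card, ← Nat.card_eq_fintype_card] at hle
    omega
  · intro g hg
    rw [← Fintype.card_subtype, ← Nat.card_eq_fintype_card]
    refine (card_keeps_le g (hodd.of_dvd_nat (orderOf_dvd_natCard g))).trans ?_
    refine Nat.pow_le_pow_right (by norm_num) (Nat.div_le_div_right ?_)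
    have := hfix g (Finset.ne_of_mem_erase hg)
    omega

/-- The numerical conditions in the regular step. -/
theorem regular_numeric {n d s : ℕ} (hs : s.Prime) (hs2 : s ≠ 2) {k : ℕ} (hk : 0 < k)
    (hn : n = s ^ k) (hd : Odd d) (h1 : d ≤ n ^ 2) (hprime : n.Prime → d ∣ n - 1)
    (h9 : n = 9 → d ≤ 3) (h25 : n = 25 → d ≤ 15) (h27 : n = 27 → d ≤ 117) :
    (n * d) ^ 2 ≤ 3 ^ (n - 1) ∧
      (n * d - 1) * 2 ^ ((n + 2 * (n / s)) / 3) < 2 * 2 ^ n := by
  have hs3 : 3 ≤ s := by have := hs.two_le; omega
  have hd0 : 0 < d := hd.pos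
  by_cases hbig : 35 ≤ n
  · have hnd : n * d ≤ n ^ 3 := by
      calc n * d ≤ n * n ^ 2 := Nat.mul_le_mul le_rfl h1
        _ = n ^ 3 := by ring
    have hA : ∀ m : ℕ, 35 ≤ m → m ^ 6 ≤ 3 ^ (m - 1) := by
      intro m hm
      induction m, hm using Nat.le_induction with
      | base => norm_num
      | succ m hm ih =>
        have h2 : (m + 1) ^ 6 ≤ 3 * m ^ 6 := by
          have e : 35 * (m + 1) ≤ 36 * m := by omega
          have := Nat.pow_le_pow_left e 6
          rw [mul_pow, mul_pow] at this
          norm_num at this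
          omega
        calc (m + 1) ^ 6 ≤ 3 * m ^ 6 := h2
          _ ≤ 3 * 3 ^ (m - 1) := Nat.mul_le_mul le_rfl ih
          _ = 3 ^ (m + 1 - 1) := by rw [← pow_succ']; congr 1; omega
    have hB : ∀ m : ℕ, 35 ≤ m → m ^ 27 < 2 ^ (4 * m + 9) := by
      intro m hm
      induction m, hm using Nat.le_induction with
      | base => norm_num
      | succ m hm ih =>
        have h2 : (m + 1) ^ 27 ≤ 16 * m ^ 27 := by
          have e : 35 * (m + 1) ≤ 36 * m := by omega
          have := Nat.pow_le_pow_left e 27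
          rw [mul_pow, mul_pow] at this
          norm_num at this
          omega
        calc (m + 1) ^ 27 ≤ 16 * m ^ 27 := h2
          _ < 16 * 2 ^ (4 * m + 9) := by omega
          _ = 2 ^ (4 * (m + 1) + 9) := by ring
    refine ⟨?_, ?_⟩
    · calc (n * d) ^ 2 ≤ (n ^ 3) ^ 2 := Nat.pow_le_pow_left hnd 2
        _ = n ^ 6 := by ring
        _ ≤ _ := hA n hbig
    · set e := (n + 2 * (n / s)) / 3 with he
      have he9 : 9 * e ≤ 5 * n := by
        have h3 : 3 * e ≤ n + 2 * (n / s) := Nat.mul_div_le _ _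
        have h4 : 3 * (n / s) ≤ n := by
          calc 3 * (n / s) ≤ s * (n / s) := Nat.mul_le_mul hs3 le_rfl
            _ ≤ n := Nat.mul_div_le _ _
        omega
      refine lt_of_le_of_lt (Nat.mul_le_mul (Nat.sub_le _ 1) le_rfl) ?_
      refine lt_of_le_of_lt (Nat.mul_le_mul hnd le_rfl) ?_
      refine lt_of_pow_lt_pow_left₀ 9 (Nat.zero_le _) ?_
      rw [mul_pow, mul_pow, ← pow_mul, ← pow_mul, ← pow_mul]
      refine lt_of_lt_of_le (Nat.mul_lt_mul_of_pos_right ?_ (by positivity))
        (?_ : 2 ^ (9 * n - e * 9) * 2 ^ 9 * 2 ^ (e * 9) ≤ 2 ^ 9 * 2 ^ (n * 9))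
      · calc n ^ (3 * 9) = n ^ 27 := by norm_num
          _ < 2 ^ (4 * n + 9) := hB n hbig
          _ ≤ _ := by rw [← pow_add]; exact Nat.pow_le_pow_right (by norm_num) (by omega)
      · rw [mul_comm (2 ^ _) (2 ^ 9), mul_assoc, ← pow_add]
        exact Nat.mul_le_mul le_rfl (Nat.pow_le_pow_right (by norm_num) (by omega))
  · -- the small cases
    have hk4 : k < 5 := by
      by_contra h
      have h2 : 3 ^ 5 ≤ s ^ k :=
        (Nat.pow_le_pow_left hs3 5).trans (Nat.pow_le_pow_right (by omega) (by omega))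
      omega
    have hsn : s ≤ n := hn ▸ Nat.le_self_pow hk.ne' s
    have hs35 : s < 35 := by omega
    have hmono : ∀ D : ℕ, d ≤ D → (n * D) ^ 2 ≤ 3 ^ (n - 1) →
        (n * D - 1) * 2 ^ ((n + 2 * (n / s)) / 3) < 2 * 2 ^ n →
        (n * d) ^ 2 ≤ 3 ^ (n - 1) ∧ (n * d - 1) * 2 ^ ((n + 2 * (n / s)) / 3) < 2 * 2 ^ n :=
      fun D hD h2 h3 => ⟨(Nat.pow_le_pow_left (Nat.mul_le_mul le_rfl hD) 2).trans h2,
        lt_of_le_of_lt (Nat.mul_le_mul (Nat.sub_le_sub_right (Nat.mul_le_mul le_rfl hD) 1) le_rfl) h3⟩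
    by_cases hp : n.Prime
    · have hdd := hprime hp
      have hk1 : k = 1 := by
        rw [hn] at hp
        exact hp.eq_one_of_pow
      subst hk1
      rw [pow_one] at hn
      subst hn
      obtain ⟨c, hc⟩ := hdd
      obtain ⟨r, hr⟩ := hd
      have hdle : d ≤ (n - 1) / 2 := by
        rw [Nat.le_div_iff_mul_le (by norm_num)]
        rcases Nat.lt_or_ge c 2 with hc2 | hc2
        · exfalso
          rcases (by omega : c = 0 ∨ c = 1) with rfl | rfl
          · omega
          · have := hp.odd_of_ne_two hs2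
            obtain ⟨q, hq⟩ := this
            omega
        · calc d * 2 ≤ d * c := Nat.mul_le_mul le_rfl hc2
            _ = n - 1 := hc.symm
      by_cases hn31 : n ≤ 7
      · interval_cases n <;> first
          | (norm_num at hp; done)
          | (refine hmono _ hdle ?_ ?_ <;> norm_num; done)
          | (have hd1 : d ≤ 1 := by interval_cases d <;> omega
             refine hmono 1 hd1 ?_ ?_ <;> norm_num)
      · interval_cases n <;> first
          | (norm_num at hp; done)
          | (refine hmono _ hdle ?_ ?_ <;> norm_num; done)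
    · have hs5 : s = 3 ∨ s = 5 := by
        rcases (by omega : k = 1 ∨ 2 ≤ k) with rfl | hk2
        · exact absurd hs (by rw [hn, pow_one] at hp; exact hp)
        · have h2 : s ^ 2 ≤ n := hn ▸ Nat.pow_le_pow_right (by omega) hk2
          by_contra hcon
          push Not at hcon
          have h7 : 6 ≤ s := by
            rcases (by omega : s = 4 ∨ 6 ≤ s) with rfl | h
            · norm_num at hs
            · exact h
          nlinarith
      rcases hs5 with rfl | rfl <;> interval_cases k <;> first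
        | (norm_num at hn; subst hn; norm_num at hp; done)
        | (norm_num at hn; omega)
        | (norm_num at hn; subst hn; exact hmono 3 (h9 rfl) (by norm_num) (by norm_num))
        | (norm_num at hn; subst hn; exact hmono 117 (h27 rfl) (by norm_num) (by norm_num))
        | (norm_num at hn; subst hn; exact hmono 15 (h25 rfl) (by norm_num) (by norm_num))

/-- The regular step. -/
theorem regular {G : Type u} [Group G] [Finite G] {X : Type u} [Finite X] [MulAction G X]
    [FaithfulSMul G X] {n : ℕ} (hlin : LinOK.{u} n) (hs : Group.IsSolvable G)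
    (hodd : Odd (Nat.card G)) (hX : Nat.card X = n) (N : Subgroup G) [N.Normal] (hN : N ≠ ⊥)
    (hmin : ∀ K : Subgroup G, K.Normal → K ≤ N → K = ⊥ ∨ K = N) (a : X)
    (ha : orbit N a = Set.univ) :
    Nat.card G ^ 2 ≤ 3 ^ (n - 1) ∧ ∃ S : Set X, ∀ g : G, Keeps g S → g = 1 := by
  classical
  haveI : Group.IsSolvable N := Group.isSolvable_of_isSolvable_injective N.subtype_injective
  obtain ⟨s, hsp, hsd, hsg, hNe⟩ := Hall.minimal_normal_isElementaryAbelian hN hmin
  haveI hNc := hNe.1
  letI : CommGroup N := { (inferInstance : Group N) with mul_comm := fun u v => mul_comm' u v }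
  have htr : ∀ x : X, ∃ m : N, m • a = x := fun x => mem_orbit_iff.mp (ha ▸ Set.mem_univ x)
  -- `N` is regular
  have hreg : ∀ m : N, ∀ x : X, m • x = x → m = 1 := by
    intro m x hm
    refine Subtype.ext (eq_of_smul_eq_smul fun y : X => ?_)
    rw [OneMemClass.coe_one, one_smul]
    show m • y = y
    obtain ⟨u, rfl⟩ := htr x
    obtain ⟨v, rfl⟩ := htr y
    have e : v • a = (v * u⁻¹) • u • a := by rw [← mul_smul, inv_mul_cancel_right]
    rw [e, ← mul_smul, mul_comm', mul_smul, hm]
  have hbij : Function.Bijective fun m : N => m • a := by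
    refine ⟨fun u v huv => ?_, htr⟩
    have : v⁻¹ * u = 1 := hreg _ a (by rw [mul_smul, inv_smul_eq_iff]; exact huv)
    exact (inv_mul_eq_one.mp this).symm
  have hNn : Nat.card N = n := hX ▸ Nat.card_eq_of_bijective _ hbij
  haveI : Fact s.Prime := ⟨hsp⟩
  obtain ⟨k, hk⟩ := hsg.exists_card_eq
  have hk0 : 0 < k := by
    rcases Nat.eq_zero_or_pos k with rfl | h
    · exact absurd (Subgroup.card_eq_one.mp (by rw [hk, pow_zero])) hN
    · exact h
  have hs2 : s ≠ 2 := fun h => absurd (hodd.of_dvd_nat ((h ▸ hsd).trans N.card_subgroup_dvd_card)) (by decide)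
  -- the point stabiliser
  set A := stabilizer G a with hA
  haveI : IsPretransitive G X := ⟨fun x y => by
    obtain ⟨u, rfl⟩ := htr x
    obtain ⟨v, rfl⟩ := htr y
    exact ⟨((v * u⁻¹ : N) : G), show (v * u⁻¹) • u • a = v • a by
      rw [← mul_smul, inv_mul_cancel_right]⟩⟩
  have hcardG : Nat.card G = n * Nat.card A := by
    rw [mul_comm, ← hX, ← index_stabilizer_of_transitive G a]; exact A.card_mul_index.symm
  have hconj : ∀ (g : A) (m : N), (g : G) • m • a = (MulAut.conjNormal (g : G) m) • a := by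
    intro g m
    show (g : G) • (m : G) • a = ((MulAut.conjNormal (g : G) m : N) : G) • a
    rw [MulAut.conjNormal_apply, Perm.Basic.smul_smul_base g.2]
  let φ : A →* MulAut N := (MulAut.conjNormal (H := N)).comp A.subtype
  have hφ : Function.Injective φ := by
    refine (injective_iff_map_eq_one φ).mpr fun g hg => Subtype.ext (eq_of_smul_eq_smul fun x : X => ?_)
    obtain ⟨m, rfl⟩ := htr x
    rw [OneMemClass.coe_one, one_smul, hconj]
    exact congrArg (· • a) (DFunLike.congr_fun hg m)
  have hirr : ∀ U : Subgroup N, (∀ g : A, ∀ u ∈ U, φ g u ∈ U) → U = ⊥ ∨ U = ⊤ := by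
    intro U hU
    have hn : (U.map N.subtype).Normal := by
      refine ⟨?_⟩
      rintro _ ⟨u, hu, rfl⟩ g
      obtain ⟨m, hm⟩ := htr (g • a)
      have hstab : (m : G)⁻¹ * g ∈ A := by
        rw [hA, mem_stabilizer_iff, mul_smul, inv_smul_eq_iff]
        exact hm.symm
      refine ⟨m * φ ⟨_, hstab⟩ u * m⁻¹, ?_, ?_⟩
      · rw [mul_comm' m, mul_inv_cancel_right]
        exact hU _ u hu
      · show (m : G) * ((m : G)⁻¹ * g * u * ((m : G)⁻¹ * g)⁻¹) * (m : G)⁻¹ = g * u * g⁻¹
        group
    rcases hmin _ hn (Subgroup.map_subtype_le U) with h | h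
    · exact Or.inl ((Subgroup.map_eq_bot_iff_of_injective _ N.subtype_injective).mp h)
    · right
      apply Subgroup.map_injective N.subtype_injective
      rw [h, ← MonoidHom.range_eq_map, Subgroup.range_subtype]
  have hAodd : Odd (Nat.card A) := hodd.of_dvd_nat A.card_subgroup_dvd_card
  obtain ⟨b1, bp, b9, b25, b27⟩ := hlin A N φ hφ
    (Group.isSolvable_of_isSolvable_injective A.subtype_injective) hAodd hNn
    (by rw [← hNn, hk]; exact Nat.one_lt_pow hk0.ne' hsp.one_lt)
    ⟨s, hsp, fun w => Subtype.ext (hNe.2 _ w.2)⟩ hirr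
  obtain ⟨hb, hnum⟩ := regular_numeric hsp hs2 hk0 (hNn.symm.trans hk) hAodd b1 bp b9 b25 b27
  refine ⟨hcardG ▸ hb, exists_subset hodd (n / s) (fun g hg => ?_) (by rw [hX, hcardG]; exact hnum)⟩
  -- fixed points of a non-trivial element
  rcases isEmpty_or_nonempty {x : X // g • x = x} with he | ⟨⟨x, hx⟩⟩
  · simp
  obtain ⟨u, hu⟩ := htr x
  set g' : G := (u : G)⁻¹ * g * u with hg'
  have hu' : (u : G) • a = x := hu
  have hg'a : g' ∈ A := by
    rw [hA, mem_stabilizer_iff, hg', mul_smul, mul_smul, hu', hx, inv_smul_eq_iff]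
    exact hu'.symm
  let F : Subgroup N :=
    { carrier := {m | φ ⟨g', hg'a⟩ m = m}
      one_mem' := map_one _
      mul_mem' := fun {v w} (hv : _ = v) (hw : _ = w) => by
        show φ ⟨g', hg'a⟩ (v * w) = v * w
        rw [map_mul, hv, hw]
      inv_mem' := fun {v} (hv : _ = v) => by
        show φ ⟨g', hg'a⟩ v⁻¹ = v⁻¹
        rw [map_inv, hv] }
  have hFcard : Nat.card {x : X // g • x = x} ≤ Nat.card F := by
    refine Nat.card_le_card_of_surjective
      (fun m : F => (⟨(u * m.1) • a, ?_⟩ : {x : X // g • x = x})) ?_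
    · show g • ((u : G) * (m.1 : G)) • a = ((u : G) * (m.1 : G)) • a
      have h1 : g' • (m.1 • a) = m.1 • a := by
        rw [hconj ⟨g', hg'a⟩ m.1]; exact congrArg (· • a) m.2
      rw [hg', mul_smul, mul_smul, inv_smul_eq_iff] at h1
      rw [mul_smul]
      exact h1
    · rintro ⟨y, hy⟩
      obtain ⟨v, rfl⟩ := htr y
      refine ⟨⟨u⁻¹ * v, hbij.1 ?_⟩, Subtype.ext ?_⟩
      · show φ ⟨g', hg'a⟩ (u⁻¹ * v) • a = (u⁻¹ * v) • a
        refine (hconj ⟨g', hg'a⟩ (u⁻¹ * v)).symm.trans ?_
        show g' • ((u : G)⁻¹ * (v : G)) • a = ((u : G)⁻¹ * (v : G)) • a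
        have hy' : g • (v : G) • a = (v : G) • a := hy
        rw [hg', mul_smul, mul_smul, mul_smul, smul_inv_smul, hy']
      · show (u * (u⁻¹ * v)) • a = v • a
        rw [mul_inv_cancel_left]
  have hFtop : F ≠ ⊤ := by
    intro htop
    have h1 : φ ⟨g', hg'a⟩ = 1 := MulEquiv.ext fun m => (show m ∈ F from htop ▸ Subgroup.mem_top m)
    have : g' = 1 := congrArg Subtype.val (hφ (h1.trans (map_one φ).symm))
    rw [hg'] at this
    exact hg (by simpa [mul_assoc] using congrArg (fun z => (u : G) * z * (u : G)⁻¹) this)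
  refine hFcard.trans ?_
  rw [Nat.le_div_iff_mul_le hsp.pos]
  obtain ⟨j, hj⟩ := (Nat.dvd_prime_pow hsp).mp (hk ▸ F.card_subgroup_dvd_card : Nat.card F ∣ s ^ k)
  have hlt : Nat.card F < s ^ k := hk ▸ lt_of_le_of_ne (Nat.le_of_dvd Nat.card_pos F.card_subgroup_dvd_card)
    (fun e => hFtop (Subgroup.eq_top_of_card_eq _ e))
  rw [hj.2] at hlt ⊢
  have hjk : j < k := (Nat.pow_lt_pow_iff_right hsp.one_lt).mp hlt
  rw [← hNn, hk, ← pow_succ]
  exact Nat.pow_le_pow_right hsp.pos hjk

/-- Odd solvable permutation groups, given the linear bounds up to the degree. -/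
theorem permOK {n : ℕ} (hlin : ∀ m ≤ n, LinOK.{u} m) : PermOK.{u} n := by
  induction n using Nat.strong_induction_on with
  | _ n ih =>
  intro G _ _ X _ _ _ hs hX hn hodd
  have ih' : ∀ m < n, PermOK.{u} m := fun m hm => ih m hm fun l hl => hlin l (hl.trans hm.le)
  haveI : Nonempty X := Finite.card_pos_iff.mp (hX ▸ hn)
  obtain ⟨a⟩ := ‹Nonempty X›
  by_cases hG : Nat.card G = 1
  · haveI : Subsingleton G := (Nat.card_eq_one_iff_unique.mp hG).1
    refine ⟨by rw [hG, one_pow]; exact Nat.one_le_pow _ _ (by norm_num), ∅, fun g _ => Subsingleton.elim _ _⟩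
  by_cases ha : orbit G a = Set.univ
  swap
  · exact intransitive ih' hs hodd hX a ha
  haveI htr : IsPretransitive G X := ⟨fun x y => by
    obtain ⟨g, rfl⟩ := mem_orbit_iff.mp (ha ▸ Set.mem_univ x : x ∈ orbit G a)
    obtain ⟨h, rfl⟩ := mem_orbit_iff.mp (ha ▸ Set.mem_univ y : y ∈ orbit G a)
    exact ⟨h * g⁻¹, by rw [← mul_smul, inv_mul_cancel_right]⟩⟩
  obtain ⟨N, hNn, -, hN, hmin⟩ := Hall.exists_minimal_normal (⊤ : Subgroup G)
    (fun h => hG (by rw [← Subgroup.card_top, h, Subgroup.card_bot]))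
  by_cases hNa : orbit N a = Set.univ
  · exact regular (hlin n le_rfl) hs hodd hX N hN hmin a hNa
  · exact blocks ih' hs hodd hX htr N hN a hNa

end Cfsg.Agent.GStructB.OddBase
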