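import Mathlib

/-!
# The numerical inequalities of the quasi-primitive step
-/

set_option autoImplicit false
set_option linter.style.haveILetI false
set_option linter.unusedSectionVars false

namespace Cfsg.Agent.GStructB.OddBase

theorem cube_le_two_pow (k : ℕ) : 8 * k ^ 3 ≤ 27 * 2 ^ (k + 1) := by
  rcases Nat.lt_or_ge k 5 with h | h
  · interval_cases k <;> norm_num
  · induction k, h using Nat.le_induction with
    | base => norm_num
    | succ k hk ih =>
      have h2 : (k + 1) ^ 3 ≤ 2 * k ^ 3 := by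
        have e : 5 * (k + 1) ≤ 6 * k := by omega
        have := Nat.pow_le_pow_left e 3
        rw [mul_pow, mul_pow] at this
        norm_num at this
        omega
      rw [pow_succ 2 (k + 1)]
      omega

/-- The case where the maximal abelian normal subgroup is self-centralizing. -/
theorem numeric_one {q N m d b c : ℕ} (hd : Odd d) (hdm : d ≤ m) (hm : 2 ^ m ≤ q) (hqN : q ≤ N)
    (hb : b < q) (hc : c ^ 3 ≤ N) :
    b + (d * b - b) * c ^ 2 + 2 * (d * b) < 2 * N ^ 2 := by
  have hN : 0 < N := by omega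
  rcases Nat.lt_or_ge d 3 with hd3 | hd3
  · have : d = 1 := by obtain ⟨k, rfl⟩ := hd; omega
    subst this
    simp only [one_mul, Nat.sub_self, zero_mul, add_zero]
    have : N ≤ N ^ 2 := Nat.le_self_pow two_ne_zero N
    have : (2 : ℕ) ≤ q := (Nat.le_self_pow (by omega : m ≠ 0) 2).trans hm
    have : 2 * N ≤ N ^ 2 := by rw [sq]; exact Nat.mul_le_mul (by omega) le_rfl
    omega
  · have hsub : d * b - b = (d - 1) * b := by rw [Nat.sub_mul, one_mul]
    rw [hsub]
    have hm8 : 2 ^ d ≤ N := ((Nat.pow_le_pow_right (by norm_num) hdm).trans hm).trans hqN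
    by_cases hsmall : N < 27
    · have hd5 : d = 3 := by
        obtain ⟨k, rfl⟩ := hd
        rcases Nat.lt_or_ge k 2 with h | h
        · omega
        · have := (Nat.pow_le_pow_right (by norm_num : 0 < 2) (by omega : 5 ≤ 2 * k + 1)).trans hm8
          omega
      subst hd5
      have hc2 : c ≤ 2 := by
        by_contra h
        have := Nat.pow_le_pow_left (show 3 ≤ c by omega) 3
        omega
      have hc4 : c ^ 2 ≤ 4 := (Nat.pow_le_pow_left hc2 2).trans (by norm_num)
      calc b + (3 - 1) * b * c ^ 2 + 2 * (3 * b) ≤ b + (3 - 1) * b * 4 + 2 * (3 * b) := by gcongr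
        _ = 15 * b := by omega
        _ < 2 * N ^ 2 := by
          have : 8 * N ≤ N ^ 2 := by rw [sq]; exact Nat.mul_le_mul (by norm_num at hm8; omega) le_rfl
          omega
    · have h1 : 2 * (d - 1) * c ^ 2 ≤ 3 * N := by
        refine le_of_pow_le_pow_left₀ (n := 3) (by norm_num) (Nat.zero_le _) ?_
        obtain ⟨k, rfl⟩ := Nat.exists_eq_add_of_le (show 1 ≤ d by omega)
        rw [Nat.add_sub_cancel_left]
        calc (2 * k * c ^ 2) ^ 3 = 8 * k ^ 3 * (c ^ 3) ^ 2 := by ring
          _ ≤ 27 * 2 ^ (k + 1) * N ^ 2 := Nat.mul_le_mul (cube_le_two_pow k) (Nat.pow_le_pow_left hc 2)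
          _ ≤ 27 * N * N ^ 2 := by
              refine Nat.mul_le_mul (Nat.mul_le_mul le_rfl ?_) le_rfl
              rw [add_comm]; exact hm8
          _ = (3 * N) ^ 3 := by ring
      have h2 : 4 * d + 2 ≤ N := by
        rcases Nat.lt_or_ge d 5 with h | h
        · omega
        · have : ∀ j : ℕ, 5 ≤ j → 4 * j + 2 ≤ 2 ^ j := fun j hj => by
            induction j, hj using Nat.le_induction with
            | base => norm_num
            | succ j hj ih => rw [pow_succ]; omega
          exact (this d h).trans hm8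
      have hbN : b + 1 ≤ N := by omega
      have h3 : 2 * (b + (d - 1) * b * c ^ 2 + 2 * (d * b)) ≤ b * (4 * N) := by
        calc 2 * (b + (d - 1) * b * c ^ 2 + 2 * (d * b))
            = b * (4 * d + 2) + b * (2 * (d - 1) * c ^ 2) := by ring
          _ ≤ b * N + b * (3 * N) := by gcongr
          _ = b * (4 * N) := by ring
      have h4 : b * (4 * N) < 2 * (2 * N ^ 2) := by
        calc b * (4 * N) < (b + 1) * (4 * N) := Nat.mul_lt_mul_of_pos_right (by omega) (by omega)
          _ ≤ N * (4 * N) := Nat.mul_le_mul hbN le_rfl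
          _ = 2 * (2 * N ^ 2) := by ring
      omega

/-- The case of a class two subgroup of order `e ^ 2` over the maximal abelian normal subgroup. -/
theorem numeric_many {q N m d b e X c c' : ℕ} (hd : Odd d) (hdm : d ≤ m) (hm : 2 ^ m ≤ q)
    (hb : b < q) (hc : c ^ 3 ≤ N) (hc' : c' ^ 3 ≤ N ^ 2) (hc1 : 1 ≤ c) (he : Odd e) (he1 : 1 < e)
    (heN : q ^ e ≤ N) (hX0 : 0 < X) (hq : ∀ s : ℕ, s.Prime → s ∣ e → s ∣ q - 1)
    (hq5 : e = 5 → 11 ≤ q) (hq7 : e = 7 → 8 ≤ q) (hX : X ≤ e ^ 4) (hX3 : e = 3 → X ≤ 1)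
    (hX5 : e = 5 → X ≤ 3) (hX7 : e = 7 → X ≤ 9) (hX9 : e = 9 → X ≤ 5) :
    b + (d * X * e ^ 2 * b - b) * c ^ 2 + (X - 1) * e ^ 2 * b * c' ^ 2 + 2 * (d * X * e ^ 2 * b)
      < 2 * N ^ 2 := by
  have he3 : 3 ≤ e := by obtain ⟨k, rfl⟩ := he; omega
  have hd0 : 0 < d := hd.pos
  have hq2 : 2 ≤ q := (Nat.le_self_pow (by omega : m ≠ 0) 2).trans hm
  have hq4 : 4 ≤ q := by
    obtain ⟨s, hs, hse⟩ := Nat.exists_prime_and_dvd (by omega : e ≠ 1)
    have h := Nat.le_of_dvd (by omega) (hq s hs hse)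
    have : s ≠ 2 := fun h => absurd (he.of_dvd_nat (h ▸ hse)) (by decide)
    have := hs.two_le
    omega
  have hdq : d < q := hdm.trans_lt ((Nat.lt_two_pow_self).trans_le hm)
  have hN4q : 4 * q ≤ N := by
    refine le_trans ?_ ((Nat.pow_le_pow_right (by omega) (by omega : 2 ≤ e)).trans heN)
    rw [sq]; exact Nat.mul_le_mul hq4 le_rfl
  -- the main condition, unless there is nothing outside
  have hmain : e = 3 ∨ (e ^ 2 * X) ^ 3 < q ^ (2 * e - 3) := by
    by_cases h3 : e = 3
    · exact Or.inl h3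
    right
    by_cases h5 : e = 5
    · subst h5
      calc (5 ^ 2 * X) ^ 3 ≤ (5 ^ 2 * 3) ^ 3 := by have := hX5 rfl; gcongr
        _ < 11 ^ (2 * 5 - 3) := by norm_num
        _ ≤ _ := Nat.pow_le_pow_left (hq5 rfl) _
    by_cases h7 : e = 7
    · subst h7
      calc (7 ^ 2 * X) ^ 3 ≤ (7 ^ 2 * 9) ^ 3 := by have := hX7 rfl; gcongr
        _ < 8 ^ (2 * 7 - 3) := by norm_num
        _ ≤ _ := Nat.pow_le_pow_left (hq7 rfl) _
    by_cases h9 : e = 9
    · subst h9
      calc (9 ^ 2 * X) ^ 3 ≤ (9 ^ 2 * 5) ^ 3 := by have := hX9 rfl; gcongr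
        _ < 4 ^ (2 * 9 - 3) := by norm_num
        _ ≤ _ := Nat.pow_le_pow_left hq4 _
    have he18 : (e ^ 2 * X) ^ 3 ≤ e ^ 18 := by
      calc (e ^ 2 * X) ^ 3 ≤ (e ^ 2 * e ^ 4) ^ 3 := by gcongr
        _ = e ^ 18 := by ring
    refine he18.trans_lt ?_
    by_cases h27 : 27 ≤ e
    · refine lt_of_lt_of_le ?_ (Nat.pow_le_pow_left hq4 _)
      have : ∀ j : ℕ, 27 ≤ j → j ^ 18 < 4 ^ (2 * j - 3) := fun j hj => by
        induction j, hj using Nat.le_induction with
        | base => norm_num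
        | succ j hj ih =>
          have h2 : (j + 1) ^ 18 ≤ 16 * j ^ 18 := by
            have e' : 27 * (j + 1) ≤ 28 * j := by omega
            have := Nat.pow_le_pow_left e' 18
            rw [mul_pow, mul_pow] at this
            norm_num at this
            omega
          calc (j + 1) ^ 18 ≤ 16 * j ^ 18 := h2
            _ < 16 * 4 ^ (2 * j - 3) := by omega
            _ = 4 ^ (2 * (j + 1) - 3) := by
              rw [show 2 * (j + 1) - 3 = (2 * j - 3) + 2 by omega, pow_add]; ring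
      exact this e h27
    · have hbd : ∀ Q : ℕ, Q - 1 ∣ q - 1 → e ^ 18 < Q ^ (2 * e - 3) → e ^ 18 < q ^ (2 * e - 3) := by
        intro Q hQ h
        have := Nat.le_of_dvd (by omega) hQ
        exact h.trans_le (Nat.pow_le_pow_left (by omega) _)
      obtain ⟨k, rfl⟩ := he
      have : k < 13 := by omega
      interval_cases k <;> first
        | omega
        | (refine hbd 12 (hq 11 ?_ ?_) ?_ <;> norm_num; done)
        | (refine hbd 14 (hq 13 ?_ ?_) ?_ <;> norm_num; done)
        | (refine hbd 18 (hq 17 ?_ ?_) ?_ <;> norm_num; done)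
        | (refine hbd 20 (hq 19 ?_ ?_) ?_ <;> norm_num; done)
        | (refine hbd 24 (hq 23 ?_ ?_) ?_ <;> norm_num; done)
        | (refine hbd 8 (hq 7 ?_ ?_) ?_ <;> norm_num; done)
        | (refine hbd 16 (Nat.Coprime.mul_dvd_of_dvd_of_dvd (?_ : Nat.Coprime 3 5)
            (hq 3 ?_ ?_) (hq 5 ?_ ?_)) ?_ <;> norm_num; done)
        | (refine hbd 6 (hq 5 ?_ ?_) ?_ <;> norm_num; done)
  -- the two sums
  have hS : (X - 1) * e ^ 2 * b * c' ^ 2 < N ^ 2 := by
    rcases hmain with h3 | hlt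
    · have := hX3 h3
      rw [show X - 1 = 0 by omega, zero_mul, zero_mul, zero_mul]
      exact pow_pos (by omega) 2
    · refine lt_of_pow_lt_pow_left₀ 3 (Nat.zero_le _) ?_
      calc ((X - 1) * e ^ 2 * b * c' ^ 2) ^ 3 ≤ (X * e ^ 2 * q * c' ^ 2) ^ 3 := by
            gcongr; exact Nat.sub_le _ _
        _ = (e ^ 2 * X) ^ 3 * q ^ 3 * (c' ^ 3) ^ 2 := by ring
        _ ≤ (e ^ 2 * X) ^ 3 * q ^ 3 * (N ^ 2) ^ 2 := by gcongr
        _ < q ^ (2 * e - 3) * q ^ 3 * (N ^ 2) ^ 2 := by
            refine Nat.mul_lt_mul_of_pos_right (Nat.mul_lt_mul_of_pos_right hlt (pow_pos (by omega) 3)) ?_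
            exact pow_pos (pow_pos (by omega) 2) 2
        _ = (q ^ e) ^ 2 * (N ^ 2) ^ 2 := by
            rw [← pow_add, show 2 * e - 3 + 3 = e * 2 by omega, pow_mul]
        _ ≤ N ^ 2 * (N ^ 2) ^ 2 := by gcongr
        _ = (N ^ 2) ^ 3 := by ring
  have hT : 4 * (d * X * e ^ 2 * b * c ^ 2) < N ^ 2 := by
    refine lt_of_pow_lt_pow_left₀ 3 (Nat.zero_le _) ?_
    have hN2 : 0 < N ^ 2 := pow_pos (by omega) 2
    have key : (4 * d * q * (e ^ 2 * X)) ^ 3 < N ^ 4 := by
      rcases hmain with h3 | hlt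
      · subst h3
        have := hX3 rfl
        have hX1 : X = 1 := by omega
        subst hX1
        refine lt_of_lt_of_le ?_ (Nat.pow_le_pow_left heN 4)
        rcases Nat.lt_or_ge q 7 with h7 | h7
        · have hd1 : d = 1 := by
            obtain ⟨k, rfl⟩ := hd
            have : m < 3 := by
              by_contra hcon
              have := (Nat.pow_le_pow_right (by norm_num : 0 < 2) (show 3 ≤ m by omega)).trans hm
              omega
            omega
          subst hd1
          interval_cases q <;> norm_num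
        · calc (4 * d * q * (3 ^ 2 * 1)) ^ 3 ≤ (4 * q * q * (3 ^ 2 * 1)) ^ 3 := by gcongr
            _ = 46656 * q ^ 6 := by ring
            _ < q ^ 6 * q ^ 6 := by
                refine Nat.mul_lt_mul_of_pos_right ?_ (pow_pos (by omega) 6)
                exact lt_of_lt_of_le (by norm_num) (Nat.pow_le_pow_left h7 6)
            _ = (q ^ 3) ^ 4 := by ring
      · rcases (by omega : e = 3 ∨ e = 4 ∨ 5 ≤ e) with h | h | h5
        · subst h
          have hX1 : X = 1 := by have := hX3 rfl; omega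
          subst hX1
          norm_num at hlt
          have h7 : 7 ≤ q := by
            by_contra hcon
            interval_cases q <;> norm_num at hlt
          refine lt_of_lt_of_le ?_ (Nat.pow_le_pow_left heN 4)
          calc (4 * d * q * (3 ^ 2 * 1)) ^ 3 ≤ (4 * q * q * (3 ^ 2 * 1)) ^ 3 := by gcongr
            _ = 46656 * q ^ 6 := by ring
            _ < q ^ 6 * q ^ 6 := by
                refine Nat.mul_lt_mul_of_pos_right ?_ (pow_pos (by omega) 6)
                exact lt_of_lt_of_le (by norm_num) (Nat.pow_le_pow_left h7 6)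
            _ = (q ^ 3) ^ 4 := by ring
        · subst h; exact absurd he (by decide)
        · calc (4 * d * q * (e ^ 2 * X)) ^ 3 ≤ (4 * q * q * (e ^ 2 * X)) ^ 3 := by gcongr
            _ = (64 * q ^ 3) * (q ^ 3 * (e ^ 2 * X) ^ 3) := by ring
            _ < (q ^ e) ^ 2 * (q ^ e) ^ 2 := by
                refine Nat.mul_lt_mul'' ?_ ?_
                · calc 64 * q ^ 3 ≤ q ^ 3 * q ^ 3 := Nat.mul_le_mul
                        (le_trans (by norm_num) (Nat.pow_le_pow_left hq4 3)) le_rfl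
                    _ < q ^ 3 * q ^ 3 * q := lt_mul_of_one_lt_right (by positivity) (by omega)
                    _ = q ^ 7 := by ring
                    _ ≤ (q ^ e) ^ 2 := by rw [← pow_mul]; exact Nat.pow_le_pow_right (by omega) (by omega)
                · rw [← pow_mul, show e * 2 = 3 + (2 * e - 3) by omega, pow_add]
                  exact Nat.mul_lt_mul_of_pos_left hlt (pow_pos (by omega) 3)
            _ ≤ N ^ 2 * N ^ 2 := by gcongr
            _ = N ^ 4 := by ring
    calc (4 * (d * X * e ^ 2 * b * c ^ 2)) ^ 3 ≤ (4 * (d * X * e ^ 2 * q * c ^ 2)) ^ 3 := by gcongr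
      _ = (4 * d * q * (e ^ 2 * X)) ^ 3 * (c ^ 3) ^ 2 := by ring
      _ ≤ (4 * d * q * (e ^ 2 * X)) ^ 3 * N ^ 2 := by gcongr
      _ < N ^ 4 * N ^ 2 := Nat.mul_lt_mul_of_pos_right key hN2
      _ = (N ^ 2) ^ 3 := by ring
  have hA : d * X * e ^ 2 * b ≤ d * X * e ^ 2 * b * c ^ 2 :=
    Nat.le_mul_of_pos_right _ (pow_pos hc1 2)
  have hsub : (d * X * e ^ 2 * b - b) * c ^ 2 ≤ d * X * e ^ 2 * b * c ^ 2 :=
    Nat.mul_le_mul (Nat.sub_le _ _) le_rfl
  have hb4 : 4 * b < N ^ 2 := by
    calc 4 * b < 4 * q := by omega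
      _ ≤ N := hN4q
      _ ≤ N ^ 2 := Nat.le_self_pow two_ne_zero N
  omega

end Cfsg.Agent.GStructB.OddBase
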