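import Mathlib
import Cfsg.Agent.Lib.Hall.MinimalNormal
import Cfsg.Agent.Lib.Perm.Basic

/-!
# Odd permutation groups: order and regular orbits on subsets

A solvable group of odd order acting faithfully on `n` points has order at most `√3 ^ (n - 1)` and
some subset of the points has trivial stabilizer (Gluck). The step where a minimal normal subgroup
is regular needs bounds for irreducible linear groups, taken here as a hypothesis.
-/

set_option autoImplicit false
set_option linter.style.haveILetI false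
set_option linter.unusedSectionVars false

open MulAction

namespace Cfsg.Agent.GStructB.OddBase

universe u

/-- `g` maps the set `S` onto itself. -/
def Keeps {G X : Type u} [Group G] [MulAction G X] (g : G) (S : Set X) : Prop :=
  ∀ x : X, g • x ∈ S ↔ x ∈ S

/-- The two conclusions for actions on `n` points. -/
def PermOK (n : ℕ) : Prop :=
  ∀ (G : Type u) [Group G] [Finite G] (X : Type u) [Finite X] [MulAction G X] [FaithfulSMul G X],
    Group.IsSolvable G → Nat.card X = n → 0 < n → Odd (Nat.card G) →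
      Nat.card G ^ 2 ≤ 3 ^ (n - 1) ∧ ∃ S : Set X, ∀ g : G, Keeps g S → g = 1

/-- The bounds on irreducible linear groups needed on an elementary abelian group of order `n`. -/
def LinOK (n : ℕ) : Prop :=
  ∀ (A : Type u) [Group A] [Finite A] (W : Type u) [CommGroup W] [Finite W] (φ : A →* MulAut W),
    Function.Injective φ → Group.IsSolvable A → Odd (Nat.card A) → Nat.card W = n → 1 < n →
    (∃ s : ℕ, s.Prime ∧ ∀ w : W, w ^ s = 1) →
    (∀ U : Subgroup W, (∀ a : A, ∀ u ∈ U, φ a u ∈ U) → U = ⊥ ∨ U = ⊤) →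
      Nat.card A ≤ n ^ 2 ∧ (n.Prime → Nat.card A ∣ n - 1) ∧ (n = 9 → Nat.card A ≤ 3) ∧
        (n = 25 → Nat.card A ≤ 15) ∧ (n = 27 → Nat.card A ≤ 117)

/-- An action that need not be faithful. -/
theorem permOK_kernel {m : ℕ} (hm : PermOK.{u} m) {H : Type u} [Group H] [Finite H]
    (hs : Group.IsSolvable H) (hodd : Odd (Nat.card H)) {Y : Type u} [Finite Y] [MulAction H Y]
    (hY : Nat.card Y = m) (hm0 : 0 < m) :
    (MulAction.toPermHom H Y).ker.index ^ 2 ≤ 3 ^ (m - 1) ∧
      ∃ S : Set Y, ∀ h : H, Keeps h S → ∀ y : Y, h • y = y := by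
  set π := MulAction.toPermHom H Y with hπ
  haveI : Group.IsSolvable π.range := Group.isSolvable_of_surjective π.rangeRestrict_surjective
  have hcard : Nat.card π.range = π.ker.index := (Subgroup.index_ker π).symm
  obtain ⟨h1, S, hS⟩ := hm π.range Y inferInstance hY hm0
    (hodd.of_dvd_nat (Subgroup.card_range_dvd π))
  refine ⟨hcard ▸ h1, S, fun h hh y => ?_⟩
  have := hS ⟨π h, h, rfl⟩ fun x => hh x
  have e := congrArg (fun σ : π.range => (σ : Equiv.Perm Y) y) this
  simpa [hπ] using e

section

variable {G : Type u} [Group G] [Finite G] {X : Type u} [Finite X] [MulAction G X] [FaithfulSMul G X]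

/-- The intransitive step. -/
theorem intransitive {n : ℕ} (ih : ∀ m < n, PermOK.{u} m) (hs : Group.IsSolvable G)
    (hodd : Odd (Nat.card G)) (hX : Nat.card X = n) (a : X) (ha : orbit G a ≠ Set.univ) :
    Nat.card G ^ 2 ≤ 3 ^ (n - 1) ∧ ∃ S : Set X, ∀ g : G, Keeps g S → g = 1 := by
  classical
  let Y : SubMulAction G X :=
    { carrier := orbit G a
      smul_mem' := fun c x hx => mem_orbit_of_mem_orbit c hx }
  let Z : SubMulAction G X :=
    { carrier := (orbit G a)ᶜ
      smul_mem' := fun c x hx hc => hx (by simpa using mem_orbit_of_mem_orbit c⁻¹ hc) }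
  have hsum : Nat.card Y + Nat.card Z = n := by
    rw [← hX]; exact Nat.card_sum.symm.trans (Nat.card_congr (Equiv.Set.sumCompl (orbit G a)))
  have hY0 : 0 < Nat.card Y := @Nat.card_pos _ ⟨⟨a, mem_orbit_self a⟩⟩ _
  have hZ0 : 0 < Nat.card Z := by
    obtain ⟨b, hb⟩ := (Set.ne_univ_iff_exists_notMem _).mp ha
    exact @Nat.card_pos _ ⟨⟨b, hb⟩⟩ _
  obtain ⟨h1, S1, hS1⟩ := permOK_kernel (ih _ (by omega)) hs hodd (Y := Y) rfl hY0
  obtain ⟨h2, S2, hS2⟩ := permOK_kernel (ih _ (by omega)) hs hodd (Y := Z) rfl hZ0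
  constructor
  · set k1 := (MulAction.toPermHom G Y).ker
    set k2 := (MulAction.toPermHom G Z).ker
    have hbot : k1 ⊓ k2 = ⊥ := by
      refine (Subgroup.eq_bot_iff_forall _).mpr fun g hg => eq_of_smul_eq_smul fun x : X => ?_
      rw [one_smul]
      by_cases hx : x ∈ orbit G a
      · exact congrArg Subtype.val (Equiv.ext_iff.mp (MonoidHom.mem_ker.mp hg.1) (⟨x, hx⟩ : Y))
      · exact congrArg Subtype.val (Equiv.ext_iff.mp (MonoidHom.mem_ker.mp hg.2) (⟨x, hx⟩ : Z))
    have hle : Nat.card G ≤ k1.index * k2.index := by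
      rw [← Subgroup.index_bot, ← hbot]; exact Subgroup.index_inf_le
    calc Nat.card G ^ 2 ≤ (k1.index * k2.index) ^ 2 := Nat.pow_le_pow_left hle 2
      _ = k1.index ^ 2 * k2.index ^ 2 := mul_pow _ _ _
      _ ≤ 3 ^ (Nat.card Y - 1) * 3 ^ (Nat.card Z - 1) := Nat.mul_le_mul h1 h2
      _ ≤ 3 ^ (n - 1) := by
        rw [← pow_add]; exact Nat.pow_le_pow_right (by norm_num) (by omega)
  · refine ⟨Subtype.val '' S1 ∪ Subtype.val '' S2, fun g hg => eq_of_smul_eq_smul fun x : X => ?_⟩
    have k1 : Keeps g S1 := by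
      intro y
      have := hg y.1
      constructor
      · intro h
        rcases this.mp (Or.inl ⟨g • y, h, rfl⟩) with ⟨z, hz, e⟩ | ⟨z, -, e⟩
        · rwa [← Subtype.ext e]
        · exact absurd (show z.1 ∈ orbit G a from e ▸ y.2) z.2
      · intro h
        rcases this.mpr (Or.inl ⟨y, h, rfl⟩) with ⟨z, hz, e⟩ | ⟨z, -, e⟩
        · rwa [← show z = g • y from Subtype.ext e]
        · exact absurd (show z.1 ∈ orbit G a from e ▸ (g • y).2) z.2
    have k2 : Keeps g S2 := by
      intro y
      have := hg y.1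
      constructor
      · intro h
        rcases this.mp (Or.inr ⟨g • y, h, rfl⟩) with ⟨z, -, e⟩ | ⟨z, hz, e⟩
        · exact absurd (show y.1 ∈ orbit G a from e ▸ z.2) y.2
        · rwa [← Subtype.ext e]
      · intro h
        rcases this.mpr (Or.inr ⟨y, h, rfl⟩) with ⟨z, -, e⟩ | ⟨z, hz, e⟩
        · exact absurd ((congrArg (· ∈ orbit G a) e).mp z.2) (g • y).2
        · rwa [← show z = g • y from Subtype.ext e]
    rw [one_smul]
    by_cases hx : x ∈ orbit G a
    · exact congrArg Subtype.val (hS1 g k1 (⟨x, hx⟩ : Y))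
    · exact congrArg Subtype.val (hS2 g k2 (⟨x, hx⟩ : Z))

end

/-- The action of `G` on the orbits of a normal subgroup. -/
@[reducible] noncomputable def quotAction {G X : Type u} [Group G] [MulAction G X] (N : Subgroup G)
    [N.Normal] : MulAction G (orbitRel.Quotient N X) where
  smul g := Quotient.map' (g • ·) (fun x y h => by
    obtain ⟨⟨m, hm⟩, rfl⟩ := orbitRel_apply.mp h
    exact orbitRel_apply.mpr ⟨⟨g * m * g⁻¹, Subgroup.Normal.conj_mem inferInstance m hm g⟩,
      show (g * m * g⁻¹) • g • y = g • m • y by simp [mul_smul]⟩)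
  one_smul q := Quotient.inductionOn' q fun x => congrArg Quotient.mk'' (one_smul G x)
  mul_smul g h q := Quotient.inductionOn' q fun x => congrArg Quotient.mk'' (mul_smul g h x)

section

variable {G : Type u} [Group G] [Finite G] {X : Type u} [Finite X] [MulAction G X] [FaithfulSMul G X]

/-- The imprimitive step. -/
theorem blocks {n : ℕ} (ih : ∀ m < n, PermOK.{u} m) (hs : Group.IsSolvable G)
    (hodd : Odd (Nat.card G)) (hX : Nat.card X = n) (htr : IsPretransitive G X) (N : Subgroup G)
    [N.Normal] (hN : N ≠ ⊥) (a : X) (ha : orbit N a ≠ Set.univ) :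
    Nat.card G ^ 2 ≤ 3 ^ (n - 1) ∧ ∃ S : Set X, ∀ g : G, Keeps g S → g = 1 := by
  classical
  letI : MulAction G (orbitRel.Quotient N X) := quotAction N
  let π : X → (orbitRel.Quotient N X) := Quotient.mk''
  have hπ : ∀ (g : G) (x : X), π (g • x) = g • π x := by intros; rfl
  let q₀ : (orbitRel.Quotient N X) := π a
  have hqt : ∀ q : (orbitRel.Quotient N X), ∃ t : G, t • q₀ = q := fun q => Quotient.inductionOn' q fun x => by
    obtain ⟨g, rfl⟩ := htr.exists_smul_eq a x
    exact ⟨g, rfl⟩
  choose t ht using hqt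
  let Y : Type u := {x : X // π x = q₀}
  letI : MulAction (stabilizer G q₀) Y :=
    { smul := fun g y => ⟨(g : G) • y.1, by rw [hπ, y.2]; exact g.2⟩
      one_smul := fun y => Subtype.ext (one_smul G y.1)
      mul_smul := fun g h y => Subtype.ext (mul_smul (g : G) (h : G) y.1) }
  have hXQ : Nat.card X = Nat.card (orbitRel.Quotient N X) * Nat.card Y := by
    rw [← Nat.card_prod]
    refine Nat.card_congr
      { toFun := fun x => (π x, ⟨(t (π x))⁻¹ • x, ?_⟩)
        invFun := fun p => t p.1 • p.2.1
        left_inv := fun x => smul_inv_smul _ _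
        right_inv := fun p => ?_ }
    · rw [hπ, inv_smul_eq_iff, ht]
    · have e : π (t p.1 • p.2.1) = p.1 := by rw [hπ, p.2.2, ht]
      refine Prod.ext e (Subtype.ext ?_)
      show (t (π (t p.1 • p.2.1)))⁻¹ • t p.1 • p.2.1 = p.2.1
      rw [e, inv_smul_smul]
  have hY0 : 0 < Nat.card Y := @Nat.card_pos _ ⟨⟨a, rfl⟩⟩ _
  have hQ0 : 0 < Nat.card (orbitRel.Quotient N X) := @Nat.card_pos _ ⟨q₀⟩ _
  have hQ1 : 1 < Nat.card (orbitRel.Quotient N X) := by
    obtain ⟨b, hb⟩ := (Set.ne_univ_iff_exists_notMem _).mp ha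
    haveI : Nontrivial (orbitRel.Quotient N X) := ⟨⟨π b, q₀, fun e => hb (orbitRel_apply.mp (Quotient.eq''.mp e))⟩⟩
    exact Finite.one_lt_card
  have hY1 : 1 < Nat.card Y := by
    obtain ⟨m, hm, hm1⟩ := N.bot_or_exists_ne_one.resolve_left hN
    obtain ⟨x, hx⟩ : ∃ x : X, m • x ≠ x := by
      by_contra h
      push Not at h
      exact hm1 (eq_of_smul_eq_smul fun x : X => (h x).trans (one_smul G x).symm)
    obtain ⟨g, rfl⟩ := htr.exists_smul_eq a x
    refine @Finite.one_lt_card _ _ ⟨⟨⟨a, rfl⟩, ⟨(g⁻¹ * m * g) • a, ?_⟩, fun e => hx ?_⟩⟩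
    · exact Quotient.eq''.mpr (orbitRel_apply.mpr
        ⟨⟨g⁻¹ * m * g, by simpa using Subgroup.Normal.conj_mem (H := N) inferInstance m hm g⁻¹⟩, rfl⟩)
    · have e' : a = (g⁻¹ * m * g) • a := congrArg Subtype.val e
      rw [mul_smul, mul_smul] at e'
      exact (eq_inv_smul_iff.mp e').symm
  have hn : n = Nat.card (orbitRel.Quotient N X) * Nat.card Y := hX ▸ hXQ
  have hQn : Nat.card (orbitRel.Quotient N X) < n := by
    rw [hn]; exact lt_mul_of_one_lt_right hQ0 hY1
  have hYn : Nat.card Y < n := by
    rw [hn]; exact lt_mul_of_one_lt_left hY0 hQ1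
  -- the two smaller actions
  obtain ⟨hG1, T, hT⟩ := permOK_kernel (ih _ hQn) hs hodd (Y := (orbitRel.Quotient N X)) rfl hQ0
  set K := (MulAction.toPermHom G (orbitRel.Quotient N X)).ker with hK
  have hKq : ∀ k ∈ K, ∀ q : (orbitRel.Quotient N X), k • q = q := fun k hk q => by
    simpa using Equiv.ext_iff.mp (MonoidHom.mem_ker.mp hk) q
  haveI hKs : Group.IsSolvable K := Group.isSolvable_of_isSolvable_injective K.subtype_injective
  have hHs : Group.IsSolvable (stabilizer G q₀) :=
    Group.isSolvable_of_isSolvable_injective (stabilizer G q₀).subtype_injective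
  obtain ⟨-, S0, hS0⟩ := permOK_kernel (ih _ hYn) hHs
    (hodd.of_dvd_nat (Subgroup.card_subgroup_dvd_card _)) (Y := Y) rfl hY0
  constructor
  · -- the order
    let L : (orbitRel.Quotient N X) → Subgroup K := fun q =>
      { carrier := {k | ∀ x : X, π x = q → (k : G) • x = x}
        one_mem' := fun x _ => one_smul G x
        mul_mem' := fun {k l} hk hl x hx => by
          show ((k : G) * l) • x = x
          rw [mul_smul, hl x hx, hk x hx]
        inv_mem' := fun {k} hk x hx => by
          show (k : G)⁻¹ • x = x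
          rw [inv_smul_eq_iff, hk x hx] }
    have hL : ∀ q, (L q).index ^ 2 ≤ 3 ^ (Nat.card Y - 1) := by
      intro q
      letI : MulAction K {x : X // π x = q} :=
        { smul := fun k y => ⟨(k : G) • y.1, by rw [hπ, y.2, hKq k k.2]⟩
          one_smul := fun y => Subtype.ext (one_smul G y.1)
          mul_smul := fun g h y => Subtype.ext (mul_smul (g : G) (h : G) y.1) }
      have hcard : Nat.card {x : X // π x = q} = Nat.card Y := by
        refine Nat.card_congr
          { toFun := fun x => ⟨(t q)⁻¹ • x.1, by rw [hπ, x.2, inv_smul_eq_iff, ht]⟩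
            invFun := fun y => ⟨t q • y.1, by rw [hπ, y.2, ht]⟩
            left_inv := fun x => Subtype.ext (smul_inv_smul _ _)
            right_inv := fun y => Subtype.ext (inv_smul_smul _ _) }
      obtain ⟨h, -⟩ := permOK_kernel (ih _ hYn) hKs
        (hodd.of_dvd_nat (Subgroup.card_subgroup_dvd_card _)) hcard hY0
      refine le_of_eq_of_le ?_ h
      congr 2
      ext k
      rw [MonoidHom.mem_ker]
      exact ⟨fun hk => Equiv.ext fun y => Subtype.ext (hk y.1 y.2),
        fun hk x hx => congrArg Subtype.val (Equiv.ext_iff.mp hk (⟨x, hx⟩ : {x : X // π x = q}))⟩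
    have hbot : ⨅ q, L q = ⊥ := by
      refine (Subgroup.eq_bot_iff_forall _).mpr fun k hk => Subtype.ext (eq_of_smul_eq_smul
        fun x : X => ?_)
      rw [OneMemClass.coe_one, one_smul]
      exact Subgroup.mem_iInf.mp hk (π x) x rfl
    haveI : Fintype (orbitRel.Quotient N X) := Fintype.ofFinite (orbitRel.Quotient N X)
    have hKc : Nat.card K ≤ ∏ q, (L q).index := by
      rw [← Subgroup.index_bot, ← hbot]; exact Subgroup.index_iInf_le L
    have hG : Nat.card G = K.index * Nat.card K := by rw [mul_comm]; exact K.card_mul_index.symm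
    calc Nat.card G ^ 2 = K.index ^ 2 * Nat.card K ^ 2 := by rw [hG, mul_pow]
      _ ≤ 3 ^ (Nat.card (orbitRel.Quotient N X) - 1) * ∏ _q : (orbitRel.Quotient N X), 3 ^ (Nat.card Y - 1) := by
          refine Nat.mul_le_mul hG1 ?_
          calc Nat.card K ^ 2 ≤ (∏ q, (L q).index) ^ 2 := Nat.pow_le_pow_left hKc 2
            _ = ∏ q, (L q).index ^ 2 := (Finset.prod_pow _ 2 _).symm
            _ ≤ _ := Finset.prod_le_prod' fun q _ => hL q
      _ ≤ 3 ^ (n - 1) := by
          rw [Finset.prod_const, Finset.card_univ, ← Nat.card_eq_fintype_card, ← pow_mul, ← pow_add]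
          refine Nat.pow_le_pow_right (by norm_num) ?_
          rw [hn]
          obtain ⟨y, hy⟩ := Nat.exists_eq_add_of_le hY0
          obtain ⟨q, hq⟩ := Nat.exists_eq_add_of_le hQ0
          rw [hy, hq]; simp only [Nat.add_sub_cancel_left]; ring_nf; omega
  · -- the subset
    have hYodd : Odd (Nat.card Y) := by
      refine hodd.of_dvd_nat (((dvd_mul_left (Nat.card Y) (Nat.card (orbitRel.Quotient N X))).trans hXQ.symm.dvd).trans ?_)
      haveI := htr
      rw [← index_stabilizer_of_transitive G a]
      exact Subgroup.index_dvd_card _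
    let P : (orbitRel.Quotient N X) → Y → Prop := fun q y => if q ∈ T then y ∈ S0 else y ∉ S0
    let base : X → Y := fun x => ⟨(t (π x))⁻¹ • x, by rw [hπ, inv_smul_eq_iff, ht]⟩
    let S : Set X := {x | P (π x) (base x)}
    refine ⟨S, fun g hg => ?_⟩
    have hmem : ∀ (q : (orbitRel.Quotient N X)) (y : Y), t q • y.1 ∈ S ↔ P q y := by
      intro q y
      have e : π (t q • y.1) = q := by rw [hπ, y.2, ht]
      have e2 : base (t q • y.1) = y := Subtype.ext (by
        show (t (π (t q • y.1)))⁻¹ • t q • y.1 = y.1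
        rw [e, inv_smul_smul])
      show P (π (t q • y.1)) (base (t q • y.1)) ↔ P q y
      rw [e, e2]
    -- the induced element of the stabiliser of `q₀`
    have hh : ∀ q : (orbitRel.Quotient N X), (t (g • q))⁻¹ * g * t q ∈ stabilizer G q₀ := fun q => by
      rw [mem_stabilizer_iff, mul_smul, mul_smul, ht, inv_smul_eq_iff, ht]
    have hkey : ∀ (q : (orbitRel.Quotient N X)) (y : Y), P (g • q) ((⟨_, hh q⟩ : stabilizer G q₀) • y) ↔ P q y := by
      intro q y
      rw [← hmem, ← hmem, show t (g • q) • ((⟨_, hh q⟩ : stabilizer G q₀) • y).1 = g • t q • y.1 by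
        show t (g • q) • ((t (g • q))⁻¹ * g * t q) • y.1 = _
        rw [mul_smul, mul_smul, smul_inv_smul]]
      exact hg _
    haveI : Fintype Y := Fintype.ofFinite Y
    have hne : (Finset.univ.filter (· ∈ S0)).card ≠ (Finset.univ.filter (· ∉ S0)).card := by
      intro e
      have h2 := Finset.card_filter_add_card_filter_not (s := (Finset.univ : Finset Y)) (· ∈ S0)
      rw [← e, Finset.card_univ, ← Nat.card_eq_fintype_card] at h2
      exact (Nat.not_odd_iff_even.mpr ⟨_, h2.symm⟩) hYodd
    have hTkeep : Keeps g T := by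
      intro q
      have hperm : (Finset.univ.filter (P (g • q))).card = (Finset.univ.filter (P q)).card := by
        refine (Finset.card_bij (fun y _ => (⟨_, hh q⟩ : stabilizer G q₀) • y) ?_ ?_ ?_).symm
        · intro y hy
          simp only [Finset.mem_filter, Finset.mem_univ, true_and] at hy ⊢
          exact (hkey q y).mpr hy
        · exact fun y _ z _ e => MulAction.injective _ e
        · intro z hz
          simp only [Finset.mem_filter, Finset.mem_univ, true_and] at hz
          refine ⟨(⟨_, hh q⟩ : stabilizer G q₀)⁻¹ • z, ?_, smul_inv_smul _ _⟩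
          simp only [Finset.mem_filter, Finset.mem_univ, true_and]
          rw [← hkey q, smul_inv_smul]; exact hz
      by_cases h1 : g • q ∈ T <;> by_cases h2 : q ∈ T <;> simp only [h1, h2] at hperm ⊢ <;>
        simp only [P, h1, h2, if_true, if_false] at hperm
      · exact absurd hperm hne
      · exact absurd hperm.symm hne
    have hgQ := hT g hTkeep
    refine eq_of_smul_eq_smul fun x : X => ?_
    rw [one_smul]
    have hk : Keeps (⟨_, hh (π x)⟩ : stabilizer G q₀) S0 := by
      intro y
      have := hkey (π x) y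
      simp only [hgQ (π x)] at this
      simp only [hgQ (π x)]
      by_cases h : π x ∈ T <;> simp only [P, h, if_true, if_false] at this
      · exact this
      · exact not_iff_not.mp this
    have := congrArg Subtype.val (hS0 _ hk (base x))
    change ((t (g • π x))⁻¹ * g * t (π x)) • (t (π x))⁻¹ • x = (t (π x))⁻¹ • x at this
    rw [hgQ (π x), mul_smul, mul_smul, smul_inv_smul] at this
    exact MulAction.injective _ this

end

end Cfsg.Agent.GStructB.OddBase
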