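import Cfsg.Agent.GStructB.OddBase.Pairing
import Cfsg.Agent.GStructB.OddBase.CR

/-!
# The action on the symplectic quotient
-/

set_option autoImplicit false
set_option linter.style.haveILetI false
set_option linter.unusedSectionVars false

open MulAction

namespace Cfsg.Agent.GStructB.OddBase

universe u v w

/-- If `n ∣ s ^ a * k` and every Sylow number is one, a normal Sylow subgroup is forced. -/
theorem not_dvd_of_sylow {I : Type v} [Group I] [Finite I] {s a k : ℕ} [Fact s.Prime]
    (hn : Nat.card I ∣ s ^ a * k) (hk : ∀ j, j ∣ k → j % s = 1 → j = 1)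
    (hno : ∀ N : Subgroup I, N.Normal → IsPGroup s N → N = ⊥) : ¬ s ∣ Nat.card I := by
  intro hdvd
  let P : Sylow s I := default
  have h1 : Nat.card (Sylow s I) ∣ s ^ a * k :=
    P.card_dvd_index.trans ((Subgroup.index_dvd_card _).trans hn)
  have h2 : Nat.card (Sylow s I) % s = 1 := by
    have := card_sylow_modEq_one s I
    rwa [Nat.ModEq, Nat.one_mod_eq_one.mpr (Fact.out : s.Prime).ne_one] at this
  have hco : Nat.Coprime (Nat.card (Sylow s I)) (s ^ a) := by
    refine Nat.Coprime.pow_right a (Nat.Coprime.symm ((Fact.out : s.Prime).coprime_iff_not_dvd.mpr ?_))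
    intro h
    rw [Nat.mod_eq_zero_of_dvd h] at h2 <;> simp_all
  have h3 := hk _ (hco.dvd_of_dvd_mul_left h1) h2
  haveI : Subsingleton (Sylow s I) := (Nat.card_eq_one_iff_unique.mp h3).1
  have := hno P P.normal_of_subsingleton P.2
  exact absurd this (P.ne_bot_of_dvd_card hdvd)

set_option maxHeartbeats 2000000 in
/-- The facts about the image on the quotient `Y`. -/
theorem image_bound {A : Type v} [Group A] [Finite A] (hs : Group.IsSolvable A)
    (hodd : Odd (Nat.card A)) {Y : Type u} [CommGroup Y] [Finite Y] (f : A →* MulAut Y)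
    {K : Type w} [Field K] [Finite K] (ω : Y →* Y →* Kˣ) (halt : ∀ y, ω y y = 1)
    (hnd : ∀ y, (∀ z, ω y z = 1) → y = 1) (hYodd : Odd (Nat.card Y))
    (hiso : ∀ U : Subgroup Y, (∀ a : A, ∀ y ∈ U, f a y ∈ U) →
      (∀ y ∈ U, ∀ z ∈ U, ω y z = 1) → U = ⊥)
    (hω : ∀ (a : A) (y z : Y), ω (f a y) (f a z) = 1 ↔ ω y z = 1)
    (hok : ∀ m ≤ Nat.card Y, TwoOK.{u} m) :
    ∃ e : ℕ, Nat.card Y = e ^ 2 ∧ Odd e ∧ f.ker.index ≤ e ^ 4 ∧ (e = 3 → f.ker.index ≤ 1) ∧
      (e = 5 → f.ker.index ≤ 3) ∧ (e = 7 → f.ker.index ≤ 9) ∧ (e = 9 → f.ker.index ≤ 5) ∧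
      ∀ s : ℕ, s.Prime → s ∣ e → s ∣ Nat.card K - 1 := by
  classical
  -- exponents are square-free
  have hexp : ∀ (y : Y) (s : ℕ), s.Prime → y ^ (s * s) = 1 → y ^ s = 1 := by
    intro y s hs' hy
    let U : Subgroup Y :=
      { carrier := {x | x ^ s = 1 ∧ ∃ z, z ^ s = x}
        one_mem' := ⟨one_pow _, 1, one_pow _⟩
        mul_mem' := by
          rintro a b ⟨ha, za, rfl⟩ ⟨hb, zb, rfl⟩
          exact ⟨by rw [mul_pow, ha, hb, one_mul], za * zb, mul_pow _ _ _⟩
        inv_mem' := by
          rintro a ⟨ha, za, rfl⟩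
          exact ⟨by rw [inv_pow, ha, inv_one], za⁻¹, inv_pow _ _⟩ }
    have hU : U = ⊥ := hiso U (fun a x ⟨hx, z, hz⟩ =>
        ⟨by rw [← map_pow, hx, map_one], f a z, by rw [← map_pow, hz]⟩) (by
      rintro x ⟨-, z, rfl⟩ x' ⟨hx', -⟩
      rw [map_pow, MonoidHom.pow_apply, ← map_pow, hx', map_one])
    have : y ^ s ∈ U := ⟨by rw [← pow_mul]; exact hy, y, rfl⟩
    rwa [hU] at this
  obtain ⟨e, he⟩ := Pairing.card_square _ Y ω rfl halt hnd hexp
  have he_odd : Odd e := by
    rcases Nat.even_or_odd e with h | h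
    · exact absurd hYodd (Nat.not_odd_iff_even.mpr (by rw [he, sq]; exact h.mul_left e))
    · exact h
  refine ⟨e, he, he_odd, ?_⟩
  -- complete reducibility
  set I := f.range
  letI : DistribMulAction I (Additive Y) :=
    { smul := fun g x => Additive.ofMul (g.1 x.toMul)
      one_smul := fun x => rfl
      mul_smul := fun g h x => rfl
      smul_zero := fun g => congrArg Additive.ofMul (map_one g.1)
      smul_add := fun g x y => congrArg Additive.ofMul (map_mul g.1 x.toMul y.toMul) }
  haveI : FaithfulSMul I (Additive Y) :=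
    ⟨fun {g h} e => Subtype.ext (MulEquiv.ext fun x => Additive.ofMul.injective (e (Additive.ofMul x)))⟩
  have hcr : ComplRed I (Additive Y) := by
    intro U hU
    set U' : Subgroup Y := U.toSubgroup' with hU'
    have hinv : ∀ a : A, ∀ y ∈ U', f a y ∈ U' := fun a y hy => hU ⟨f a, a, rfl⟩ _ hy
    have hperp : ∀ a : A, ∀ y ∈ Pairing.perp ω U', f a y ∈ Pairing.perp ω U' := by
      intro a y hy u hu
      have h := hy _ (hinv a⁻¹ u hu)
      rw [← hω a, ← MulAut.mul_apply, ← map_mul, mul_inv_cancel, map_one] at h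
      exact h
    refine ⟨(Pairing.perp ω U').toAddSubgroup, ?_, ?_, ?_⟩
    · rintro ⟨_, a, rfl⟩ x hx
      exact hperp a _ hx
    · have hb := hiso (U' ⊓ Pairing.perp ω U') (fun a y hy => ⟨hinv a y hy.1, hperp a y hy.2⟩)
        (fun y hy z hz => hy.2 z hz.1)
      rw [eq_bot_iff]
      intro x hx
      have : x.toMul ∈ U' ⊓ Pairing.perp ω U' := hx
      rw [hb] at this
      exact Additive.toMul.injective (Subgroup.mem_bot.mp this)
    · have hb := hiso (U' ⊓ Pairing.perp ω U') (fun a y hy => ⟨hinv a y hy.1, hperp a y hy.2⟩)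
        (fun y hy z hz => hy.2 z hz.1)
      have hinj : Function.Injective fun p : U' × Pairing.perp ω U' => (p.1 : Y) * p.2 := by
        intro p q e
        have h : (q.1 : Y)⁻¹ * p.1 ∈ U' ⊓ Pairing.perp ω U' := by
          refine ⟨U'.mul_mem (U'.inv_mem q.1.2) p.1.2, ?_⟩
          rw [show (q.1 : Y)⁻¹ * p.1 = q.2 * (p.2 : Y)⁻¹ by
            rw [eq_mul_inv_iff_mul_eq, mul_assoc, inv_mul_eq_iff_eq_mul]; exact e]
          exact (Pairing.perp ω U').mul_mem q.2.2 ((Pairing.perp ω U').inv_mem p.2.2)
        rw [hb, Subgroup.mem_bot, inv_mul_eq_one] at h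
        refine Prod.ext (Subtype.ext h.symm) (Subtype.ext ?_)
        have e' : (p.1 : Y) * p.2 = q.1 * q.2 := e
        rw [h] at e'
        exact mul_left_cancel e'
      have hsurj := ((Nat.bijective_iff_injective_and_card _).mpr ⟨hinj, le_antisymm
        (Nat.card_le_card_of_injective _ hinj) (by
          rw [Nat.card_prod]; exact Pairing.card_perp ω U')⟩).2
      rw [eq_top_iff]
      intro x _
      obtain ⟨⟨a, b⟩, hab⟩ := hsurj x.toMul
      exact AddSubgroup.mem_sup.mpr ⟨Additive.ofMul a.1, a.2, Additive.ofMul b.1, b.2,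
        congrArg Additive.ofMul hab⟩
  haveI : Group.IsSolvable I := Group.isSolvable_of_surjective f.rangeRestrict_surjective
  have hIodd : Odd (Nat.card I) := hodd.of_dvd_nat (Subgroup.card_range_dvd f)
  have hidx : f.ker.index = Nat.card I := Subgroup.index_ker f
  rw [hidx]
  have hsq : Nat.card I ≤ e ^ 4 := by
    obtain ⟨p, hp⟩ := cr_base (A := I) inferInstance hIodd _ (Additive Y) rfl hok hcr
    calc Nat.card I ≤ Nat.card (Additive Y × Additive Y) := by
          refine Nat.card_le_card_of_injective (fun g : I => g • p) fun g h e => ?_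
          have := hp (h⁻¹ * g) (by rw [mul_smul, inv_smul_eq_iff]; exact e)
          exact (inv_mul_eq_one.mp (eq_of_smul_eq_smul fun y : Additive Y =>
            (this y).trans (one_smul I y).symm)).symm
      _ = e ^ 4 := by
          rw [Nat.card_prod, show Nat.card (Additive Y) = e ^ 2 from he]; ring
  have haut : ∀ (s r : ℕ), s.Prime → Nat.card Y = s ^ r →
      (∀ x : Y, x ^ s = 1) ∧ Nat.card I ∣ ∏ i ∈ Finset.range r, (s ^ r - s ^ i) := by
    intro s r hsp hY
    haveI := Fact.mk hsp
    have hx : ∀ x : Y, x ^ s = 1 := by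
      intro x
      have hdesc : ∀ j : ℕ, x ^ (s ^ (j + 1)) = 1 → x ^ s = 1 := by
        intro j
        induction j with
        | zero => simp
        | succ j ihj =>
          intro h
          refine ihj ?_
          rw [pow_succ, pow_mul]
          refine hexp _ s hsp ?_
          rw [← pow_mul, show s ^ j * (s * s) = s ^ (j + 1 + 1) by ring]
          exact h
      refine hdesc r ?_
      rw [pow_succ, pow_mul, ← hY, pow_card_eq_one', one_pow]
    refine ⟨hx, ?_⟩
    rw [← GroupStructure3.FrattiniAut.card_mulAut_elementary (p := s) hY hx]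
    exact Subgroup.card_subgroup_dvd_card I
  have hno : ∀ (s r : ℕ) [Fact s.Prime], Nat.card Y = s ^ r →
      ∀ N : Subgroup I, N.Normal → IsPGroup s N → N = ⊥ := by
    intro s r _ hY N hN hNp
    have := pgroup_trivial (A := I) (V := Additive Y)
      (IsPGroup.of_card (n := r) ((Nat.card_congr (Multiplicative.toAdd.trans Additive.toMul)).trans hY))
      hcr N hNp
    exact (Subgroup.eq_bot_iff_forall _).mpr fun g hg => eq_of_smul_eq_smul fun y : Additive Y =>
      (this g hg y).trans (one_smul I y).symm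
  have hstrip : ∀ {a b : ℕ}, Nat.card I ∣ 2 ^ a * b → Nat.card I ∣ b := fun {a b} hd =>
    (Nat.Coprime.pow_right a hIodd.coprime_two_right).dvd_of_dvd_mul_left hd
  have hkill : ∀ (s a k : ℕ) [Fact s.Prime] (r : ℕ), Nat.card Y = s ^ r → Nat.card I ∣ s ^ a * k →
      (∀ j, j ∣ k → j % s = 1 → j = 1) → Nat.card I ∣ k := by
    intro s a k _ r hY hd hk
    refine (Nat.Coprime.pow_right a ?_).dvd_of_dvd_mul_left hd
    exact ((Fact.out : s.Prime).coprime_iff_not_dvd.mpr (not_dvd_of_sylow hd hk (hno s r hY))).symm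
  refine ⟨hsq, fun h3 => ?_, fun h5 => ?_, fun h7 => ?_, fun h9 => ?_, ?_⟩
  · haveI : Fact (Nat.Prime 3) := ⟨Nat.prime_three⟩
    have hY : Nat.card Y = 3 ^ 2 := by rw [he, h3]
    have h := (haut 3 2 Nat.prime_three hY).2
    norm_num [Finset.prod_range_succ] at h
    have h' := hkill 3 1 1 2 hY (by simpa using hstrip (a := 4) (b := 3) h)
      (fun j hj _ => Nat.dvd_one.mp hj)
    exact (Nat.dvd_one.mp h').le
  · haveI : Fact (Nat.Prime 5) := ⟨by norm_num⟩
    have hY : Nat.card Y = 5 ^ 2 := by rw [he, h5]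
    have h := (haut 5 2 (by norm_num) hY).2
    norm_num [Finset.prod_range_succ] at h
    have h' := hkill 5 1 3 2 hY (by simpa using hstrip (a := 5) (b := 15) h) (fun j hj hj' => by
      rcases (Nat.dvd_prime Nat.prime_three).mp hj with rfl | rfl <;> omega)
    exact Nat.le_of_dvd (by norm_num) h'
  · haveI : Fact (Nat.Prime 7) := ⟨by norm_num⟩
    have hY : Nat.card Y = 7 ^ 2 := by rw [he, h7]
    have h := (haut 7 2 (by norm_num) hY).2
    norm_num [Finset.prod_range_succ] at h
    have h' := hkill 7 1 9 2 hY (by simpa using hstrip (a := 5) (b := 63) h) (fun j hj hj' => by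
      have := Nat.le_of_dvd (by norm_num) hj
      interval_cases j <;> simp_all)
    exact Nat.le_of_dvd (by norm_num) h'
  · haveI : Fact (Nat.Prime 3) := ⟨Nat.prime_three⟩
    have hY : Nat.card Y = 3 ^ 4 := by rw [he, h9]; norm_num
    obtain ⟨-, h⟩ := haut 3 4 Nat.prime_three hY
    norm_num [Finset.prod_range_succ] at h
    have h' : Nat.card I ∣ 47385 := hstrip (a := 9) (b := 47385) h
    haveI : Fact (Nat.Prime 13) := ⟨by norm_num⟩
    have h13 : ¬ 13 ∣ Nat.card I := by
      intro hd
      obtain ⟨g, hg⟩ := exists_prime_orderOf_dvd_card' 13 hd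
      have hZ : IsPGroup 13 (Subgroup.zpowers g) :=
        IsPGroup.of_card (n := 1) (by rw [Nat.card_zpowers, hg, pow_one])
      set F := fixedSub (Additive Y) g with hF
      have hfixed : ∀ y : Additive Y, y ∈ MulAction.fixedPoints (Subgroup.zpowers g) (Additive Y) ↔ y ∈ F := by
        intro y
        refine ⟨fun h => h ⟨g, Subgroup.mem_zpowers g⟩, fun h => ?_⟩
        rintro ⟨x, hx⟩
        exact (Subgroup.zpowers_le (H := stabilizer I y)).mpr h hx
      have hmod := hZ.card_modEq_card_fixedPoints (Additive Y)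
      rw [show Nat.card (Additive Y) = 81 by
        rw [show Nat.card (Additive Y) = Nat.card Y from rfl, hY]; norm_num] at hmod
      rw [Nat.card_congr (Equiv.setCongr (Set.ext hfixed) :
        ↥(MulAction.fixedPoints (Subgroup.zpowers g) (Additive Y)) ≃ ↥(F : Set (Additive Y)))] at hmod
      change 81 % 13 = Nat.card F % 13 at hmod
      obtain ⟨j, hj, hj'⟩ := (Nat.dvd_prime_pow Nat.prime_three).mp
        (show Nat.card F ∣ 3 ^ 4 from hY ▸ AddSubgroup.card_addSubgroup_dvd_card F)
      have hj1 : j = 1 := by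
        rw [hj'] at hmod
        rcases (by omega : j = 0 ∨ j = 1 ∨ j = 2 ∨ j = 3 ∨ j = 4) with rfl | rfl | rfl | rfl | rfl
        · norm_num at hmod
        · rfl
        · norm_num at hmod
        · norm_num at hmod
        · exfalso
          have htop : F = ⊤ := AddSubgroup.eq_top_of_card_eq _ (hj'.trans hY.symm)
          have : g = 1 := eq_of_smul_eq_smul fun y : Additive Y =>
            (mem_fixedSub.mp (show y ∈ F by rw [htop]; exact AddSubgroup.mem_top y)).trans (one_smul I y).symm
          rw [this, orderOf_one] at hg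
          norm_num at hg
      rw [hj1, pow_one] at hj'
      -- a fixed vector and its perpendicular
      haveI : Nontrivial F := Finite.one_lt_card_iff_nontrivial.mp (by omega)
      obtain ⟨⟨y, hy⟩, hy0⟩ := exists_ne (0 : F)
      obtain ⟨a, ha⟩ := g.2
      set P := Subgroup.zpowers y.toMul with hP
      set D := (Pairing.perp ω P).toAddSubgroup with hD
      have hy1 : y.toMul ≠ 1 := fun h => hy0 (Subtype.ext (Additive.toMul.injective h))
      have hfy : f a y.toMul = y.toMul := by
        have h := congrArg Additive.toMul (mem_fixedSub.mp hy)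
        change g.1 y.toMul = y.toMul at h
        rwa [← ha] at h
      have hDinv : ∀ x ∈ D, g • x ∈ D := by
        intro x hx u hu
        obtain ⟨i, rfl⟩ := Subgroup.mem_zpowers_iff.mp hu
        show ω (g.1 x.toMul) (y.toMul ^ i) = 1
        rw [← ha, ← hfy, ← map_zpow, hω]
        exact hx _ (zpow_mem (Subgroup.mem_zpowers _) i)
      have hyD : y ∈ D := by
        intro u hu
        obtain ⟨i, rfl⟩ := Subgroup.mem_zpowers_iff.mp hu
        show ω y.toMul (y.toMul ^ i) = 1
        rw [map_zpow, halt, one_zpow]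
      have hPc : Nat.card P = 3 := by
        rw [hP, Nat.card_zpowers]
        exact orderOf_eq_prime ((haut 3 4 Nat.prime_three hY).1 _) hy1
      have hD27 : Nat.card D = 27 := by
        have h1 := Pairing.card_perp ω P
        rw [hY, hPc] at h1
        obtain ⟨i, hi, hi'⟩ := (Nat.dvd_prime_pow Nat.prime_three).mp
          (show Nat.card (Pairing.perp ω P) ∣ 3 ^ 4 from hY ▸ Subgroup.card_subgroup_dvd_card _)
        show Nat.card (Pairing.perp ω P) = 27
        rw [hi'] at h1 ⊢
        rcases (by omega : i = 0 ∨ i = 1 ∨ i = 2 ∨ i = 3 ∨ i = 4) with rfl | rfl | rfl | rfl | rfl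
        · norm_num at h1
        · norm_num at h1
        · norm_num at h1
        · norm_num
        · exfalso
          apply hy1
          refine hnd _ fun z => ?_
          have hz : z ∈ Pairing.perp ω P := by
            rw [Subgroup.eq_top_of_card_eq _ (hi'.trans hY.symm)]; exact Subgroup.mem_top z
          rw [Pairing.swap ω halt z, hz _ (Subgroup.mem_zpowers _), inv_one]
      letI : MulAction (Subgroup.zpowers g) D :=
        { smul := fun x v => ⟨x.1 • v.1, by
            obtain ⟨k, hk⟩ := mem_powers_iff_mem_zpowers.mpr x.2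
            rw [← hk]
            clear hk
            induction k with
            | zero =>
              show (g ^ 0) • v.1 ∈ D
              rw [pow_zero, one_smul]; exact v.2
            | succ k ih =>
              show (g ^ (k + 1)) • v.1 ∈ D
              rw [pow_succ', mul_smul]; exact hDinv _ ih⟩
          one_smul := fun v => Subtype.ext (one_smul I v.1)
          mul_smul := fun x x' v => Subtype.ext (mul_smul x.1 x'.1 v.1) }
      have hmod2 := hZ.card_modEq_card_fixedPoints D
      have hFD : F ≤ D := by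
        have hle : AddSubgroup.zmultiples y ≤ F ⊓ D := AddSubgroup.zmultiples_le.mpr ⟨hy, hyD⟩
        have hc : Nat.card (AddSubgroup.zmultiples y) = Nat.card F := by
          rw [Nat.card_zmultiples, hj', ← hPc, hP, Nat.card_zpowers, ← addOrderOf_ofMul_eq_orderOf]
          rfl
        rw [← AddSubgroup.eq_of_le_of_card_ge (hle.trans inf_le_left) hc.ge]
        exact hle.trans inf_le_right
      have hcard : Nat.card (MulAction.fixedPoints (Subgroup.zpowers g) D) = Nat.card F := by
        refine Nat.card_congr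
          { toFun := fun v => ⟨v.1.1, (hfixed _).mp fun x => congrArg Subtype.val (v.2 x)⟩
            invFun := fun v => ⟨⟨v.1, hFD v.2⟩, fun x => Subtype.ext ((hfixed _).mpr v.2 x)⟩
            left_inv := fun v => rfl
            right_inv := fun v => rfl }
      rw [hD27, hcard, hj'] at hmod2
      norm_num [Nat.ModEq] at hmod2
    have h3645 : Nat.card I ∣ 3 ^ 6 * 5 := by
      have hd : Nat.card I ∣ 3645 * 13 := by norm_num; exact h'
      have := (((Fact.out : Nat.Prime 13).coprime_iff_not_dvd.mpr h13).symm).dvd_of_dvd_mul_right hd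
      exact this
    have := hkill 3 6 5 4 hY h3645 (fun j hj hj' => by
      rcases (Nat.dvd_prime (by norm_num : Nat.Prime 5)).mp hj with rfl | rfl <;> omega)
    exact Nat.le_of_dvd (by norm_num) this
  · intro s hsp hse
    haveI := Fact.mk hsp
    obtain ⟨y, hy⟩ := exists_prime_orderOf_dvd_card' (G := Y) s
      (he ▸ (dvd_pow hse two_ne_zero))
    obtain ⟨z, hz⟩ : ∃ z, ω y z ≠ 1 := by
      by_contra h
      push Not at h
      rw [hnd y h, orderOf_one] at hy
      exact hsp.ne_one hy.symm
    have ho : orderOf (ω y z) = s := by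
      refine orderOf_eq_prime ?_ hz
      rw [← MonoidHom.pow_apply, ← map_pow, ← hy, pow_orderOf_eq_one, map_one]; rfl
    rw [← Nat.card_units, ← ho]
    exact orderOf_dvd_natCard _

end Cfsg.Agent.GStructB.OddBase
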