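import Cfsg.Agent.GStructB.OddBase.Fixed
import Cfsg.Agent.GStructB.OddBase.Struct
import Cfsg.Agent.GStructB.OddBase.Numeric

/-!
# The quasi-primitive step
-/

set_option autoImplicit false
set_option linter.style.haveILetI false
set_option linter.unusedSectionVars false

open MulAction

namespace Cfsg.Agent.GStructB.OddBase

universe u

variable {A : Type u} [Group A] [Finite A] {V : Type u} [AddCommGroup V] [Finite V]
  [DistribMulAction A V] [FaithfulSMul A V]

set_option maxHeartbeats 4000000 in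
/-- The step when every abelian normal subgroup generates a field. -/
theorem quasi (hs : Group.IsSolvable A) (hodd : Odd (Nat.card A))
    (ih : ∀ m < Nat.card V, TwoOK.{u} m) (hV1 : 1 < Nat.card V)
    (hfield : ∀ B : Subgroup A, B.Normal → (∀ x ∈ B, ∀ y ∈ B, x * y = y * x) →
      IsField (genRing V B)) : TwoPairs A V := by
  classical
  -- a maximal abelian normal subgroup
  obtain ⟨B, hBmem, hBmax⟩ := Set.Finite.exists_maximalFor (fun B : Subgroup A => Nat.card B)
    {B : Subgroup A | B.Normal ∧ ∀ x ∈ B, ∀ y ∈ B, x * y = y * x} (Set.toFinite _)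
    ⟨⊥, inferInstance, fun x hx y hy => by rw [Subgroup.mem_bot.mp hx, Subgroup.mem_bot.mp hy]⟩
  obtain ⟨hBn, hBab⟩ := hBmem
  haveI := hBn
  have hBmax' : ∀ L : Subgroup A, B ≤ L → L.Normal → (∀ x ∈ L, ∀ y ∈ L, x * y = y * x) → L = B :=
    fun L hle hLn hLab => (Subgroup.eq_of_le_of_card_ge hle
      (hBmax (j := L) ⟨hLn, hLab⟩ (Subgroup.card_le_of_le hle))).symm
  -- the field
  set K := genRing V B
  letI : Field K := (hfield B hBn hBab).toField
  haveI : Finite (AddMonoid.End V) :=
    Finite.of_injective (fun f : AddMonoid.End V => (f : V → V)) DFunLike.coe_injective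
  haveI : Finite K := Finite.of_injective _ Subtype.val_injective
  have hKsmul : ∀ (k : K) (v : V), k • v = k.1 v := fun k v => rfl
  let ι₀ : B →* K :=
    { toFun := fun b => ⟨DistribMulAction.toAddMonoidEnd A V b, Subring.subset_closure ⟨b, b.2, rfl⟩⟩
      map_one' := Subtype.ext (map_one _)
      map_mul' := fun a b => Subtype.ext (map_mul _ _ _) }
  let ι : B →* Kˣ := ι₀.toHomUnits
  have hι : ∀ (b : B) (v : V), (ι b : K) • v = (b : A) • v := fun b v => rfl
  have hιinj : Function.Injective ι := by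
    intro a b e
    refine Subtype.ext (eq_of_smul_eq_smul fun v : V => ?_)
    rw [← hι, ← hι, e]
  have hsemi : ∀ b ∈ B, b ≠ 1 → Nat.card (fixedSub V b) = 1 := by
    intro b hb hb1
    rw [AddSubgroup.card_eq_one, AddSubgroup.eq_bot_iff_forall]
    intro v hv
    have h : ((ι ⟨b, hb⟩ : K) - 1) • v = 0 := by
      rw [sub_smul, one_smul, hι, sub_eq_zero]; exact hv
    rcases smul_eq_zero.mp h with h | h
    · refine absurd (congrArg Subtype.val (hιinj (a₁ := ⟨b, hb⟩) (a₂ := 1) (Units.ext ?_))) hb1
      rw [map_one, Units.val_one]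
      exact sub_eq_zero.mp h
    · exact h
  have hσ : ∀ (g : A) (k : K) (v : V), g • (k • v) = conjRing B g k • g • v := fun g k v => by
    show g • k.1 v = g • k.1 (g⁻¹ • g • v)
    rw [inv_smul_smul]
  -- the centralizer
  set C := Subgroup.centralizer (B : Set A) with hC
  haveI hCn : C.Normal := by rw [hC]; exact Subgroup.normal_centralizer
  have hBC : B ≤ C := fun x hx => Subgroup.mem_centralizer_iff.mpr fun y hy => hBab y hy x hx
  have hCB : ∀ x ∈ C, ∀ b ∈ B, b * x = x * b := fun x hx b hb => Subgroup.mem_centralizer_iff.mp hx b hb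
  have hCfix : ∀ g : A, g ∈ C ↔ ∀ k : K, conjRing B g k = k := by
    intro g
    constructor
    · intro hg k
      have hle : K ≤ (conjEnd (V := V) g).eqLocus (RingHom.id _) := by
        rw [show K = Subring.closure _ from rfl, Subring.closure_le]
        rintro _ ⟨b, hb, rfl⟩
        show DistribMulAction.toAddMonoidEnd A V g * DistribMulAction.toAddMonoidEnd A V b *
          DistribMulAction.toAddMonoidEnd A V g⁻¹ = DistribMulAction.toAddMonoidEnd A V b
        rw [← map_mul, ← map_mul, ← hCB g hg b hb, mul_inv_cancel_right]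
      exact Subtype.ext (hle k.2)
    · intro h
      rw [hC, Subgroup.mem_centralizer_iff]
      intro b hb
      have e := congrArg Subtype.val (h (ι ⟨b, hb⟩ : K))
      refine eq_of_smul_eq_smul fun v : V => ?_
      have e' := DFunLike.congr_fun e (g • v)
      change g • b • g⁻¹ • g • v = b • g • v at e'
      rw [inv_smul_smul] at e'
      rw [mul_smul, mul_smul, e']
  have hlin : ∀ x ∈ C, ∀ (k : K) (v : V), x • (k • v) = k • x • v := fun x hx k v => by
    rw [hσ, (hCfix x).mp hx]
  -- a maximal class two subgroup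
  obtain ⟨M, hMmem, hMmax⟩ := Set.Finite.exists_maximalFor (fun M : Subgroup A => Nat.card M)
    {M : Subgroup A | M.Normal ∧ B ≤ M ∧ M ≤ C ∧ ∀ x ∈ M, ∀ y ∈ M, x * y * x⁻¹ * y⁻¹ ∈ B}
    (Set.toFinite _) ⟨B, hBn, le_rfl, hBC, fun x hx y hy =>
      mul_mem (mul_mem (mul_mem hx hy) (inv_mem hx)) (inv_mem hy)⟩
  obtain ⟨hMn, hBM, hMC, hMcl⟩ := hMmem
  haveI := hMn
  have hCM : ∀ x ∈ C, (∀ y ∈ M, y * x = x * y) → x ∈ B := by
    by_contra hno
    push Not at hno
    obtain ⟨x₀, hx₀C, hx₀M, hx₀B⟩ := hno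
    set D := C ⊓ Subgroup.centralizer (M : Set A) with hD
    haveI hMcn : (Subgroup.centralizer (M : Set A)).Normal := Subgroup.normal_centralizer
    haveI hDn : D.Normal := Subgroup.normal_inf_normal _ _
    obtain ⟨k, hk⟩ := (Group.isSolvable_of_isSolvable_injective D.subtype_injective :
      Group.IsSolvable D).solvable
    have hex : ∃ j, (derivedSeries D j).map D.subtype ≤ B := ⟨k, by rw [hk, Subgroup.map_bot]; exact bot_le⟩
    have h0 : ¬ (derivedSeries D 0).map D.subtype ≤ B := by
      rw [derivedSeries_zero, ← MonoidHom.range_eq_map, Subgroup.range_subtype]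
      exact fun h => hx₀B (h ⟨hx₀C, Subgroup.mem_centralizer_iff.mpr hx₀M⟩)
    obtain ⟨j, hj⟩ : ∃ j, Nat.find hex = j + 1 :=
      Nat.exists_eq_succ_of_ne_zero fun e => h0 (e ▸ Nat.find_spec hex)
    have hjB := Nat.find_spec hex
    rw [hj] at hjB
    have hjN := Nat.find_min hex (show j < Nat.find hex by omega)
    set E := (derivedSeries D j).map D.subtype with hE
    haveI hEn : E.Normal := by
      haveI : (derivedSeries D j).Characteristic := derivedSeries_characteristic D j
      exact ConjAct.normal_of_characteristic_of_normal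
    have hED : E ≤ D := Subgroup.map_subtype_le _
    have hEcl : ∀ x ∈ E, ∀ y ∈ E, x * y * x⁻¹ * y⁻¹ ∈ B := by
      rintro _ ⟨a, ha, rfl⟩ _ ⟨b, hb, rfl⟩
      refine hjB ⟨a * b * a⁻¹ * b⁻¹, ?_, by simp⟩
      rw [derivedSeries_succ]
      exact Subgroup.commutator_mem_commutator ha hb
    have hmk : ∀ x y : A, x * y * x⁻¹ * y⁻¹ ∈ B →
        (x : A ⧸ B) * y = (y : A ⧸ B) * x := by
      intro x y h
      have := (QuotientGroup.eq_one_iff _).mpr h
      rw [QuotientGroup.mk_mul, QuotientGroup.mk_mul, QuotientGroup.mk_mul, QuotientGroup.mk_inv,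
        QuotientGroup.mk_inv, mul_inv_eq_one, mul_inv_eq_iff_eq_mul] at this
      exact this
    have hsup : (M ⊔ E).map (QuotientGroup.mk' B) ≤
        Subgroup.centralizer (((M ⊔ E).map (QuotientGroup.mk' B) : Subgroup (A ⧸ B)) : Set (A ⧸ B)) := by
      have hone : ∀ x y : A, x * y = y * x → x * y * x⁻¹ * y⁻¹ ∈ B := fun x y h => by
        rw [h, mul_inv_cancel_right, mul_inv_cancel]; exact one_mem B
      rw [Subgroup.map_sup, sup_le_iff]
      constructor <;>
      · rw [Subgroup.le_centralizer_iff, sup_le_iff]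
        constructor <;>
        · rintro _ ⟨x, hx, rfl⟩
          refine Subgroup.mem_centralizer_iff.mpr ?_
          rintro _ ⟨y, hy, rfl⟩
          first
            | exact hmk y x (hMcl y hy x hx)
            | exact hmk y x (hEcl y hy x hx)
            | exact hmk y x (hone y x (Subgroup.mem_centralizer_iff.mp (hED hx).2 y hy))
            | exact hmk y x (hone y x (Subgroup.mem_centralizer_iff.mp (hED hy).2 x hx).symm)
    have hMEcl : ∀ x ∈ M ⊔ E, ∀ y ∈ M ⊔ E, x * y * x⁻¹ * y⁻¹ ∈ B := by
      intro x hx y hy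
      have h := Subgroup.mem_centralizer_iff.mp (hsup ⟨x, hx, rfl⟩) _ ⟨y, hy, rfl⟩
      simp only [QuotientGroup.mk'_apply] at h
      rw [← QuotientGroup.eq_one_iff, QuotientGroup.mk_mul, QuotientGroup.mk_mul, QuotientGroup.mk_mul,
        QuotientGroup.mk_inv, QuotientGroup.mk_inv, mul_inv_eq_one, mul_inv_eq_iff_eq_mul]
      exact h.symm
    have hEM : E ≤ M := by
      have := Subgroup.eq_of_le_of_card_ge (le_sup_left (a := M) (b := E))
        (hMmax (j := M ⊔ E) ⟨inferInstance, hBM.trans le_sup_left,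
          sup_le hMC (hED.trans inf_le_left), hMEcl⟩ (Subgroup.card_le_of_le le_sup_left))
      exact this ▸ le_sup_right
    have hEC : ∀ x ∈ E, ∀ y ∈ M, y * x = x * y := fun x hx y hy =>
      Subgroup.mem_centralizer_iff.mp (hED hx).2 y hy
    have hBE : ∀ x ∈ B ⊔ E, ∀ y ∈ B ⊔ E, x * y = y * x := by
      have h : B ⊔ E ≤ Subgroup.centralizer ((B ⊔ E : Subgroup A) : Set A) := by
        rw [sup_le_iff]
        constructor <;> rw [Subgroup.le_centralizer_iff, sup_le_iff] <;> constructor <;>
          intro x hx <;> refine Subgroup.mem_centralizer_iff.mpr fun y hy => ?_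
        · exact hBab y hy x hx
        · exact hCB x (hED hx).1 y hy
        · exact (hCB y (hED hy).1 x hx).symm
        · exact hEC x hx y (hEM hy)
      exact fun x hx y hy => (Subgroup.mem_centralizer_iff.mp (h hx) y hy).symm
    have := hBmax' (B ⊔ E) le_sup_left inferInstance hBE
    exact hjN (this ▸ le_sup_right)
  -- the pairing
  let com : ∀ x y : M, B := fun x y => ⟨(x : A) * y * (x : A)⁻¹ * (y : A)⁻¹, hMcl x x.2 y y.2⟩
  have hcomr : ∀ x y z : M, com x (y * z) = com x y * com x z := by
    intro x y z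
    refine Subtype.ext ?_
    show (x : A) * (y * z) * (x : A)⁻¹ * ((y : A) * z)⁻¹ =
      (x : A) * y * (x : A)⁻¹ * (y : A)⁻¹ * ((x : A) * z * (x : A)⁻¹ * (z : A)⁻¹)
    have hc := hCB _ (hMC y.2) _ (com x z).2
    change ((x : A) * z * (x : A)⁻¹ * (z : A)⁻¹) * y = y * ((x : A) * z * (x : A)⁻¹ * (z : A)⁻¹) at hc
    calc (x : A) * (y * z) * (x : A)⁻¹ * ((y : A) * z)⁻¹
        = (x : A) * y * (x : A)⁻¹ * ((x : A) * z * (x : A)⁻¹ * (z : A)⁻¹) * (y : A)⁻¹ := by group
      _ = (x : A) * y * (x : A)⁻¹ * ((y : A)⁻¹ * y * ((x : A) * z * (x : A)⁻¹ * (z : A)⁻¹)) * (y : A)⁻¹ := by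
          rw [inv_mul_cancel, one_mul]
      _ = (x : A) * y * (x : A)⁻¹ * ((y : A)⁻¹ * (((x : A) * z * (x : A)⁻¹ * (z : A)⁻¹) * y)) * (y : A)⁻¹ := by
          rw [hc, mul_assoc (y : A)⁻¹]
      _ = _ := by group
  have hcomswap : ∀ x y : M, com y x = (com x y)⁻¹ := fun x y => Subtype.ext (by
    show (y : A) * x * (y : A)⁻¹ * (x : A)⁻¹ = ((x : A) * y * (x : A)⁻¹ * (y : A)⁻¹)⁻¹
    group)
  have hcoml : ∀ x y z : M, com (x * y) z = com x z * com y z := fun x y z => by
    rw [hcomswap z (x * y), hcomr, hcomswap x z, hcomswap y z, mul_inv_rev, inv_inv, inv_inv]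
    exact Subtype.ext (hBab _ (com y z).2 _ (com x z).2)
  let Ω : M →* M →* Kˣ :=
    { toFun := fun x =>
        { toFun := fun y => ι (com x y)
          map_one' := by
            rw [show com x 1 = 1 from Subtype.ext (by show (x : A) * 1 * (x : A)⁻¹ * 1⁻¹ = 1; group),
              map_one]
          map_mul' := fun y z => by rw [hcomr, map_mul] }
      map_one' := by
        ext y
        show ((ι (com 1 y) : Kˣ) : K).1 _ = _
        rw [show com 1 y = 1 from Subtype.ext (by show 1 * (y : A) * 1⁻¹ * (y : A)⁻¹ = 1; group),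
          map_one]
        rfl
      map_mul' := fun x y => by
        refine MonoidHom.ext fun z => ?_
        show ι (com (x * y) z) = ι (com x z) * ι (com y z)
        rw [hcoml, map_mul] }
  set B₁ := B.subgroupOf M with hB₁
  haveI hB₁n : B₁.Normal := Subgroup.Normal.subgroupOf hBn M
  letI : CommGroup (M ⧸ B₁) :=
    { (inferInstance : Group (M ⧸ B₁)) with
      mul_comm := fun a b => by
        induction a using QuotientGroup.induction_on with
        | _ a =>
        induction b using QuotientGroup.induction_on with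
        | _ b =>
        rw [← QuotientGroup.mk_mul, ← QuotientGroup.mk_mul, QuotientGroup.eq]
        have h := (com b⁻¹ a⁻¹).2
        change (b : A)⁻¹ * (a : A)⁻¹ * (b : A)⁻¹⁻¹ * (a : A)⁻¹⁻¹ ∈ B at h
        show ((a : A) * b)⁻¹ * ((b : A) * a) ∈ B
        simpa [mul_assoc] using h }
  have hΩl : ∀ x ∈ B₁, ∀ y : M, com x y = 1 := fun x hx y => Subtype.ext (by
    show (x : A) * y * (x : A)⁻¹ * (y : A)⁻¹ = 1
    rw [hCB _ (hMC y.2) (x : A) hx, mul_inv_cancel_right, mul_inv_cancel])
  let ω₁ : M →* (M ⧸ B₁) →* Kˣ :=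
    { toFun := fun x => QuotientGroup.lift B₁ (Ω x) (fun y hy => by
        rw [MonoidHom.mem_ker]
        show ι (com x y) = 1
        rw [hcomswap, hΩl y hy x, inv_one, map_one])
      map_one' := by
        refine QuotientGroup.monoidHom_ext _ (MonoidHom.ext fun y => ?_)
        show Ω 1 y = 1
        rw [map_one]; rfl
      map_mul' := fun a b => by
        refine QuotientGroup.monoidHom_ext _ (MonoidHom.ext fun y => ?_)
        show Ω (a * b) y = Ω a y * Ω b y
        rw [map_mul]; rfl }
  let ω : (M ⧸ B₁) →* (M ⧸ B₁) →* Kˣ := QuotientGroup.lift B₁ ω₁ (fun x hx => by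
    rw [MonoidHom.mem_ker]
    refine QuotientGroup.monoidHom_ext _ (MonoidHom.ext fun y => ?_)
    show ι (com x y) = 1
    rw [hΩl x hx y, map_one])
  have hωmk : ∀ x y : M, ω x y = ι (com x y) := fun x y => rfl
  have halt : ∀ y, ω y y = 1 := fun y => by
    induction y using QuotientGroup.induction_on with
    | _ y =>
    rw [hωmk, show com y y = 1 from Subtype.ext (by show (y : A) * y * (y : A)⁻¹ * (y : A)⁻¹ = 1; group),
      map_one]
  have hnd : ∀ y, (∀ z, ω y z = 1) → y = 1 := fun y => by
    induction y using QuotientGroup.induction_on with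
    | _ y =>
    intro h
    rw [QuotientGroup.eq_one_iff]
    refine hCM y (hMC y.2) fun z hz => ?_
    have := congrArg Subtype.val (hιinj ((hωmk y ⟨z, hz⟩).symm.trans ((h _).trans (map_one ι).symm)))
    change (y : A) * z * (y : A)⁻¹ * z⁻¹ = 1 at this
    rw [mul_inv_eq_one, mul_inv_eq_iff_eq_mul] at this
    exact this.symm
  -- the action on the quotient
  have hconjB : ∀ g : A, B₁.map ((MulAut.conjNormal (H := M) g : MulAut M) : M →* M) = B₁ := by
    intro g
    refine le_antisymm ?_ ?_
    · rintro _ ⟨x, hx, rfl⟩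
      show g * (x : A) * g⁻¹ ∈ B
      exact hBn.conj_mem _ hx g
    · intro x hx
      refine ⟨MulAut.conjNormal (H := M) g⁻¹ x, ?_, ?_⟩
      · show (MulAut.conjNormal (H := M) g⁻¹ x : A) ∈ B
        rw [MulAut.conjNormal_apply, inv_inv]
        simpa using hBn.conj_mem _ hx g⁻¹
      · refine Subtype.ext ?_
        show ((MulAut.conjNormal (H := M) g) (MulAut.conjNormal (H := M) g⁻¹ x) : A) = x
        rw [MulAut.conjNormal_apply, MulAut.conjNormal_apply]
        group
  let f : A →* MulAut (M ⧸ B₁) :=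
    { toFun := fun g => QuotientGroup.congr B₁ B₁ (MulAut.conjNormal (H := M) g) (hconjB g)
      map_one' := MulEquiv.ext fun x => by
        induction x using QuotientGroup.induction_on with
        | _ x => simp
      map_mul' := fun g h => MulEquiv.ext fun x => by
        induction x using QuotientGroup.induction_on with
        | _ x => simp }
  have hfmk : ∀ (g : A) (x : M), f g (x : M ⧸ B₁) = ((MulAut.conjNormal (H := M) g x : M) : M ⧸ B₁) :=
    fun g x => rfl
  have hωf : ∀ (g : A) (y z : M ⧸ B₁), ω (f g y) (f g z) = 1 ↔ ω y z = 1 := by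
    intro g y z
    induction y using QuotientGroup.induction_on with
    | _ y =>
    induction z using QuotientGroup.induction_on with
    | _ z =>
    rw [hfmk, hfmk, hωmk, hωmk, ← map_one ι, hιinj.eq_iff, hιinj.eq_iff, Subtype.ext_iff, Subtype.ext_iff]
    show (MulAut.conjNormal (H := M) g y : A) * (MulAut.conjNormal (H := M) g z : A) *
      (MulAut.conjNormal (H := M) g y : A)⁻¹ * (MulAut.conjNormal (H := M) g z : A)⁻¹ = 1 ↔
      (y : A) * z * (y : A)⁻¹ * (z : A)⁻¹ = 1
    rw [MulAut.conjNormal_apply, MulAut.conjNormal_apply]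
    rw [show g * (y : A) * g⁻¹ * (g * z * g⁻¹) * (g * y * g⁻¹)⁻¹ * (g * z * g⁻¹)⁻¹ =
      g * ((y : A) * z * (y : A)⁻¹ * (z : A)⁻¹) * g⁻¹ by group, conj_eq_one_iff]
  have hiso : ∀ U : Subgroup (M ⧸ B₁), (∀ g : A, ∀ y ∈ U, f g y ∈ U) →
      (∀ y ∈ U, ∀ z ∈ U, ω y z = 1) → U = ⊥ := by
    intro U hU hU1
    set L := (U.comap (QuotientGroup.mk' B₁)).map M.subtype with hL
    have hBL : B ≤ L := fun b hb => by
      refine ⟨⟨b, hBM hb⟩, ?_, rfl⟩
      show ((⟨b, hBM hb⟩ : M) : M ⧸ B₁) ∈ U
      rw [(QuotientGroup.eq_one_iff (⟨b, hBM hb⟩ : M)).mpr hb]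
      exact one_mem U
    have hLn : L.Normal := by
      refine ⟨?_⟩
      rintro _ ⟨x, hx, rfl⟩ g
      refine ⟨MulAut.conjNormal (H := M) g x, ?_, by simp⟩
      show ((MulAut.conjNormal (H := M) g x : M) : M ⧸ B₁) ∈ U
      rw [← hfmk]
      exact hU g _ hx
    have hLab : ∀ x ∈ L, ∀ y ∈ L, x * y = y * x := by
      rintro _ ⟨x, hx, rfl⟩ _ ⟨y, hy, rfl⟩
      have := congrArg Subtype.val (hιinj ((hωmk x y).symm.trans ((hU1 _ hx _ hy).trans (map_one ι).symm)))
      change (x : A) * y * (x : A)⁻¹ * (y : A)⁻¹ = 1 at this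
      rwa [mul_inv_eq_one, mul_inv_eq_iff_eq_mul] at this
    have hLB := hBmax' L hBL hLn hLab
    rw [eq_bot_iff]
    intro y hy
    induction y using QuotientGroup.induction_on with
    | _ y =>
    rw [Subgroup.mem_bot, QuotientGroup.eq_one_iff]
    exact (hLB ▸ ⟨y, hy, rfl⟩ : (y : A) ∈ B)
  have hYodd : Odd (Nat.card (M ⧸ B₁)) :=
    (hodd.of_dvd_nat M.card_subgroup_dvd_card).of_dvd_nat (Subgroup.card_quotient_dvd_card B₁)
  -- the dimension
  haveI : Module.Finite K V := Module.Finite.of_finite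
  have hind : LinearIndependent K (fun y : M ⧸ B₁ => ({
      toFun := fun v => (y.out : A) • v
      map_add' := smul_add _
      map_smul' := fun k v => hlin _ (hMC y.out.2) k v } : Module.End K V)) := by
    haveI : Fintype (M ⧸ B₁) := Fintype.ofFinite _
    rw [Fintype.linearIndependent_iff]
    intro c hc y₀
    have hz : ∀ (z : M) (v : V), ∑ y : M ⧸ B₁, (c y * (ι (com z y.out) : K)) • (y.out : A) • v = 0 := by
      intro z v
      have h := congrArg ((z : A) • ·) (LinearMap.congr_fun hc ((z : A)⁻¹ • v))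
      simp only [LinearMap.sum_apply, LinearMap.smul_apply, LinearMap.zero_apply, smul_zero,
        Finset.smul_sum] at h
      refine Eq.trans (Finset.sum_congr rfl fun y _ => ?_) h
      show _ = (z : A) • c y • (y.out : A) • (z : A)⁻¹ • v
      rw [hlin _ (hMC z.2), mul_smul, hι, ← mul_smul, ← mul_smul, ← mul_smul]
      congr 2
      show (z : A) * y.out * (z : A)⁻¹ * (y.out : A)⁻¹ * y.out = _
      group
    haveI : Finite ((M ⧸ B₁) →* K) :=
      Finite.of_injective (fun g : (M ⧸ B₁) →* K => (g : M ⧸ B₁ → K)) DFunLike.coe_injective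
    have hchar : LinearIndependent K (fun y : M ⧸ B₁ => (fun z : M ⧸ B₁ => (ω z y : K))) :=
      (linearIndependent_monoidHom (M ⧸ B₁) K).comp
        (fun y => (Units.coeHom K).comp (ω.flip y)) (by
        intro y y' e
        rw [← inv_mul_eq_one]
        refine hnd _ fun z => ?_
        have h : ω z y = ω z y' := Units.ext (DFunLike.congr_fun e z)
        rw [Pairing.swap ω halt z, map_mul, map_inv, h, inv_mul_cancel, inv_one])
    by_contra hc0
    obtain ⟨v, hv⟩ : ∃ v : V, c y₀ • (y₀.out : A) • v ≠ 0 := by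
      haveI : Nontrivial V := Finite.one_lt_card_iff_nontrivial.mp hV1
      obtain ⟨v, hv⟩ := exists_ne (0 : V)
      refine ⟨v, fun e => hv ?_⟩
      rcases smul_eq_zero.mp e with h | h
      · exact absurd h hc0
      · rwa [smul_eq_zero_iff_eq] at h
    obtain ⟨φ, hφ⟩ : ∃ φ : Module.Dual K V, φ (c y₀ • (y₀.out : A) • v) ≠ 0 := by
      by_contra h
      push Not at h
      exact hv ((Module.forall_dual_apply_eq_zero_iff K _).mp h)
    refine hφ ?_
    rw [map_smul, smul_eq_mul]
    refine Fintype.linearIndependent_iff.mp hchar (fun y => c y * φ ((y.out : A) • v)) ?_ y₀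
    funext z
    induction z using QuotientGroup.induction_on with
    | _ z =>
    have h := congrArg φ (hz z v)
    rw [map_sum, map_zero] at h
    rw [Finset.sum_apply, Pi.zero_apply]
    refine Eq.trans (Finset.sum_congr rfl fun y _ => ?_) h
    rw [LinearMap.map_smul, Pi.smul_apply, smul_eq_mul, smul_eq_mul]
    conv_lhs => rw [← QuotientGroup.out_eq' y, hωmk, QuotientGroup.out_eq']
    ring
  haveI : Fintype (M ⧸ B₁) := Fintype.ofFinite _
  have hdim := hind.fintype_card_le_finrank
  rw [← Nat.card_eq_fintype_card, show Module.finrank K (Module.End K V) =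
    Module.finrank K V * Module.finrank K V from Module.finrank_linearMap K K V V] at hdim
  set r := Module.finrank K V with hr
  have hN : Nat.card V = Nat.card K ^ r := Module.natCard_eq_pow_finrank (K := K) (V := V)
  have hr0 : r ≠ 0 := fun e => by rw [hN, e, pow_zero] at hV1; exact absurd hV1 (lt_irrefl _)
  have hYN : ∀ m ≤ Nat.card (M ⧸ B₁), m < Nat.card V := by
    intro m hm
    have hq2 : 2 ≤ Nat.card K := Finite.one_lt_card
    rcases Nat.lt_or_ge 1 (Nat.card (M ⧸ B₁)) with hY | hY
    · have h3 : 3 ≤ Nat.card K := by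
        obtain ⟨s, hsp, hsd⟩ := Nat.exists_prime_and_dvd hY.ne'
        have hs2 : s ≠ 2 := fun h => absurd (hYodd.of_dvd_nat (h ▸ hsd)) (by decide)
        haveI := Fact.mk hsp
        obtain ⟨y, hy⟩ := exists_prime_orderOf_dvd_card' (G := M ⧸ B₁) s hsd
        obtain ⟨z, hz⟩ : ∃ z, ω y z ≠ 1 := by
          by_contra h
          push Not at h
          rw [hnd y h, orderOf_one] at hy
          exact hsp.ne_one hy.symm
        have ho : orderOf (ω y z) = s := by
          refine orderOf_eq_prime ?_ hz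
          rw [← MonoidHom.pow_apply, ← map_pow, ← hy, pow_orderOf_eq_one, map_one]; rfl
        have h := Nat.le_of_dvd Nat.card_pos (ho ▸ orderOf_dvd_natCard (ω y z) : s ∣ Nat.card Kˣ)
        rw [Nat.card_units] at h
        have := hsp.two_le
        omega
      have : ∀ j : ℕ, j * j < 3 ^ j := fun j => by
        induction j with
        | zero => norm_num
        | succ j ihj =>
          rw [pow_succ]
          rcases Nat.lt_or_ge j 2 with hj | hj
          · interval_cases j <;> norm_num
          · nlinarith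
      calc m ≤ r * r := hm.trans hdim
        _ < 3 ^ r := this r
        _ ≤ Nat.card V := hN ▸ Nat.pow_le_pow_left h3 r
    · omega
  obtain ⟨e, he, heodd, hI4, hI3, hI5, hI7, hI9, hIdvd⟩ := image_bound hs hodd f ω halt hnd hYodd hiso
    hωf (fun m hm => ih m (hYN m hm))
  -- the index of `M` in `C`
  have hMeq : f.ker ⊓ C = M := by
    refine le_antisymm ?_ (le_inf ?_ hMC)
    · rintro x ⟨hxk, hxC⟩
      by_contra hxM
      have hcl : ∀ y : M, x * y * x⁻¹ * (y : A)⁻¹ ∈ B := by
        intro y
        have h := DFunLike.congr_fun (MonoidHom.mem_ker.mp hxk) (y : M ⧸ B₁)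
        rw [hfmk, MulAut.one_apply, QuotientGroup.eq] at h
        have h' := hBn.conj_mem _ (inv_mem h) (y : A)
        have e : (y : A) * ((((MulAut.conjNormal (H := M) x y)⁻¹ * y : M) : A))⁻¹ * (y : A)⁻¹ =
            (y : A) * ((y : A)⁻¹ * (x * y * x⁻¹)) * (y : A)⁻¹ := by
          simp [MulAut.conjNormal_apply, mul_assoc]
        change (y : A) * ((((MulAut.conjNormal (H := M) x y)⁻¹ * y : M) : A))⁻¹ * (y : A)⁻¹ ∈ B at h'
        rw [e, mul_inv_cancel_left] at h'
        exact h'
      let χ : M →* Kˣ :=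
        { toFun := fun y => ι ⟨_, hcl y⟩
          map_one' := by
            rw [show (⟨_, hcl 1⟩ : B) = 1 from Subtype.ext (by
              show x * 1 * x⁻¹ * (1 : A)⁻¹ = 1
              group), map_one]
          map_mul' := fun y z => by
            rw [← map_mul]
            congr 1
            refine Subtype.ext ?_
            show x * ((y : A) * z) * x⁻¹ * ((y : A) * z)⁻¹ =
              x * y * x⁻¹ * (y : A)⁻¹ * (x * z * x⁻¹ * (z : A)⁻¹)
            have hc := hCB _ (hMC y.2) _ (hcl z)
            calc x * ((y : A) * z) * x⁻¹ * ((y : A) * z)⁻¹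
                = x * y * x⁻¹ * (x * z * x⁻¹ * (z : A)⁻¹) * (y : A)⁻¹ := by group
              _ = x * y * x⁻¹ * ((y : A)⁻¹ * y * (x * z * x⁻¹ * (z : A)⁻¹)) * (y : A)⁻¹ := by
                  rw [inv_mul_cancel, one_mul]
              _ = x * y * x⁻¹ * ((y : A)⁻¹ * ((x * z * x⁻¹ * (z : A)⁻¹) * y)) * (y : A)⁻¹ := by
                  rw [hc, mul_assoc (y : A)⁻¹]
              _ = _ := by group }
      obtain ⟨m, hm⟩ := Pairing.exists_eq ω hnd (QuotientGroup.lift B₁ χ (fun y hy => by
        rw [MonoidHom.mem_ker]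
        show ι ⟨_, hcl y⟩ = 1
        rw [show (⟨_, hcl y⟩ : B) = 1 from Subtype.ext (by
          show x * y * x⁻¹ * (y : A)⁻¹ = 1
          rw [← hCB x hxC (y : A) hy, mul_inv_cancel_right, mul_inv_cancel]), map_one]))
      induction m using QuotientGroup.induction_on with
      | _ m =>
      refine hxM ?_
      have hx' : (m : A)⁻¹ * x ∈ B := by
        refine hCM _ (mul_mem (inv_mem (hMC m.2)) hxC) fun y hy => ?_
        have h : ι (com m ⟨y, hy⟩) = ι ⟨_, hcl ⟨y, hy⟩⟩ := DFunLike.congr_fun hm ((⟨y, hy⟩ : M) : M ⧸ B₁)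
        have h' := congrArg Subtype.val (hιinj h)
        change (m : A) * y * (m : A)⁻¹ * y⁻¹ = x * y * x⁻¹ * y⁻¹ at h'
        have h'' := mul_right_cancel h'
        calc y * ((m : A)⁻¹ * x) = (m : A)⁻¹ * ((m : A) * y * (m : A)⁻¹) * x := by group
          _ = (m : A)⁻¹ * x * y := by rw [h'']; group
      simpa using mul_mem m.2 (hBM hx')
    · intro x hx
      rw [MonoidHom.mem_ker]
      refine MulEquiv.ext fun y => ?_
      induction y using QuotientGroup.induction_on with
      | _ y =>
      rw [hfmk, MulAut.one_apply, QuotientGroup.eq]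
      have h := hMcl _ hx _ (inv_mem y.2)
      show ((MulAut.conjNormal (H := M) x y : M) : A)⁻¹ * y ∈ B
      rw [MulAut.conjNormal_apply]
      simpa [mul_assoc] using h
  have hMker : M.relIndex C ∣ f.ker.index := by
    have h1 := Subgroup.relIndex_dvd_index_of_normal f.ker C
    rwa [← Subgroup.inf_relIndex_right, hMeq] at h1
  set X := M.relIndex C with hX
  have hXle : ∀ k, f.ker.index ≤ k → X ≤ k := fun k hk =>
    (Nat.le_of_dvd (Nat.pos_of_ne_zero Subgroup.index_ne_zero_of_finite) hMker).trans hk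
  have hX0 : 0 < X := Nat.pos_of_ne_zero fun h => by
    have := Nat.eq_zero_of_zero_dvd (h ▸ hMker)
    exact Subgroup.index_ne_zero_of_finite this
  have hcardM : Nat.card M = e ^ 2 * Nat.card B := by
    rw [← he, ← B₁.card_mul_index, Subgroup.index, Nat.card_congr (Subgroup.subgroupOfEquivOfLe hBM).toEquiv]
    ring
  have hcardC : Nat.card C = X * e ^ 2 * Nat.card B := by
    rw [mul_assoc, ← hcardM, hX, Subgroup.relIndex, ← (M.subgroupOf C).card_mul_index,
      Nat.card_congr (Subgroup.subgroupOfEquivOfLe hMC).toEquiv]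
    ring
  have hcardA : Nat.card A = C.index * X * e ^ 2 * Nat.card B := by
    rw [← C.card_mul_index, hcardC]; ring
  -- the field automorphisms
  obtain ⟨p, hp⟩ := CharP.exists K
  haveI := Fintype.ofFinite K
  obtain ⟨m, hpp, hqm⟩ := FiniteField.card K p
  haveI := Fact.mk hpp
  letI := ZMod.algebra K p
  have hqm' : Nat.card K = p ^ (m : ℕ) := by rw [Nat.card_eq_fintype_card, hqm]
  have hfr : Module.finrank (ZMod p) K = m := by
    have h := Module.natCard_eq_pow_finrank (K := ZMod p) (V := K)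
    rw [hqm', Nat.card_zmod] at h
    exact (Nat.pow_right_injective hpp.two_le h).symm
  have hinv : ∀ (g : A) (k : K), conjRing B g⁻¹ (conjRing B g k) = k := fun g k =>
    Subtype.ext (conjEnd_inv g k.1)
  let au : A → (K ≃ₐ[ZMod p] K) := fun g => AlgEquiv.ofRingEquiv
    (f := RingEquiv.ofBijective (conjRing B g) ⟨Function.LeftInverse.injective (hinv g),
      fun k => ⟨conjRing B g⁻¹ k, by simpa using hinv g⁻¹ k⟩⟩)
    (fun k => RingHom.congr_fun (RingHom.ext_zmod ((conjRing B g).comp (algebraMap (ZMod p) K))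
      (algebraMap (ZMod p) K)) k)
  have hd : C.index ≤ (m : ℕ) := by
    rw [← hfr]
    refine le_trans ?_ (AlgEquiv.card_le (F := ZMod p) (K := K))
    rw [← Nat.card_eq_fintype_card, Subgroup.index]
    refine Nat.card_le_card_of_injective (fun c : A ⧸ C => au c.out) ?_
    intro c c' hcc
    rw [← QuotientGroup.out_eq' c, ← QuotientGroup.out_eq' c', QuotientGroup.eq, hCfix]
    intro k
    have h : conjRing B c.out k = conjRing B c'.out k := DFunLike.congr_fun hcc k
    refine Subtype.ext (AddMonoidHom.ext fun v => ?_)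
    have h' := DFunLike.congr_fun (congrArg Subtype.val h) (c.out • v)
    change c.out • k.1 (c.out⁻¹ • c.out • v) = c'.out • k.1 (c'.out⁻¹ • c.out • v) at h'
    rw [inv_smul_smul] at h'
    show (c.out⁻¹ * c'.out) • k.1 ((c.out⁻¹ * c'.out)⁻¹ • v) = k.1 v
    rw [mul_inv_rev, inv_inv, mul_smul, mul_smul, ← h', inv_smul_smul]
  have hm2 : 2 ^ (m : ℕ) ≤ Nat.card K := hqm' ▸ Nat.pow_le_pow_left hpp.two_le _
  have hbK : Nat.card B < Nat.card K := by
    have h := Nat.card_le_card_of_injective ι hιinj
    rw [Nat.card_units] at h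
    have : 0 < Nat.card K := Nat.card_pos
    omega
  have hdodd : Odd C.index := hodd.of_dvd_nat C.index_dvd_card
  -- the fixed point bounds
  set N := Nat.card V with hNdef
  set c1 := Nat.findGreatest (fun c => c ^ 3 ≤ N) N with hc1
  set c2 := Nat.findGreatest (fun c => c ^ 3 ≤ N ^ 2) N with hc2
  have hc1s : c1 ^ 3 ≤ N := Nat.findGreatest_spec (P := fun c => c ^ 3 ≤ N) (Nat.zero_le N) (by norm_num)
  have hc2s : c2 ^ 3 ≤ N ^ 2 :=
    Nat.findGreatest_spec (P := fun c => c ^ 3 ≤ N ^ 2) (Nat.zero_le N) (by norm_num)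
  have hc11 : 1 ≤ c1 := Nat.le_findGreatest (by omega) (by norm_num; omega)
  have hfle : ∀ g : A, Nat.card (fixedSub V g) ≤ N := fun g =>
    Nat.card_le_card_of_injective _ (fixedSub V g).subtype_injective
  have hA : ∀ g : A, g ∉ B → ¬ (g ∈ C ∧ g ∉ M) → Nat.card (fixedSub V g) ^ 3 ≤ N := by
    intro g hgB hgnot
    by_cases hgC : g ∈ C
    · have hgM : g ∈ M := by_contra fun h => hgnot ⟨hgC, h⟩
      obtain ⟨z, hz⟩ : ∃ z, ω ((⟨g, hgM⟩ : M) : M ⧸ B₁) z ≠ 1 := by
        by_contra h
        push Not at h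
        exact hgB ((QuotientGroup.eq_one_iff (⟨g, hgM⟩ : M)).mp (hnd _ h))
      induction z using QuotientGroup.induction_on with
      | _ z =>
      rw [hωmk] at hz
      set ζ := ι (com ⟨g, hgM⟩ z) with hζ
      refine card_fixed_twist g (z : A) (ζ : K) (hlin g hgC) (hlin _ (hMC z.2)) (fun v => ?_) ?_ ?_
        (Units.ne_zero ζ)
      · rw [hι, ← mul_smul, ← mul_smul, ← mul_smul]
        congr 1
        show g * z = g * z * g⁻¹ * (z : A)⁻¹ * z * g
        group
      · exact fun h => hz (Units.ext h)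
      · intro h
        have h2 : ζ * ζ = 1 := Units.ext h
        rw [hζ, ← map_mul, ← map_one ι, hιinj.eq_iff] at h2
        have hBo : Odd (Nat.card B) := hodd.of_dvd_nat B.card_subgroup_dvd_card
        by_cases hcz : com ⟨g, hgM⟩ z = 1
        · exact hz (by rw [hζ, hcz, map_one])
        · exact ne_inv_of_odd hBo hcz (eq_inv_of_mul_eq_one_left h2)
    · obtain ⟨k, hk⟩ : ∃ k : K, conjRing B g k ≠ k := by
        by_contra h
        push Not at h
        exact hgC ((hCfix g).mpr h)
      have hσσ : ∀ (a b : A) (k : K), conjRing B a (conjRing B b k) = conjRing B (a * b) k := by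
        intro a b k
        refine Subtype.ext (AddMonoidHom.ext fun v => ?_)
        show a • b • k.1 (b⁻¹ • a⁻¹ • v) = (a * b) • k.1 ((a * b)⁻¹ • v)
        rw [mul_inv_rev, mul_smul, mul_smul]
      -- `g * g` moves `k`
      have hgg : conjRing B (g * g) k ≠ k := by
        intro h
        apply hk
        obtain ⟨j, hj⟩ := hodd.of_dvd_nat (orderOf_dvd_natCard g)
        have hpow : ∀ i : ℕ, conjRing B ((g * g) ^ i) k = k := by
          intro i
          induction i with
          | zero =>
            refine Subtype.ext (AddMonoidHom.ext fun v => ?_)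
            show ((g * g) ^ 0) • k.1 (((g * g) ^ 0)⁻¹ • v) = k.1 v
            rw [pow_zero, inv_one, one_smul, one_smul]
          | succ i ihi => rw [pow_succ, ← hσσ, h, ihi]
        have e : g = (g * g) ^ (j + 1) := by
          rw [← sq, ← pow_mul, show 2 * (j + 1) = orderOf g + 1 by omega, pow_succ, pow_orderOf_eq_one,
            one_mul]
        rw [e]
        exact hpow _
      refine card_fixed_semilinear g (conjRing B g) (hσ g) k (Ne.symm hk) ?_ ?_
      · rw [hσσ]; exact Ne.symm hgg
      · exact fun h => hk (Function.LeftInverse.injective (hinv g) h.symm)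
  have hC2 : ∀ g : A, g ∈ C → g ∉ M → Nat.card (fixedSub V g) ^ 3 ≤ N ^ 2 := by
    intro g hgC hgM
    obtain ⟨y, hy⟩ : ∃ y : M, g * y * g⁻¹ * (y : A)⁻¹ ∉ B := by
      by_contra h
      push Not at h
      -- `g` would centralize the quotient
      have hgk : g ∈ f.ker := by
        rw [MonoidHom.mem_ker]
        refine MulEquiv.ext fun y => ?_
        induction y using QuotientGroup.induction_on with
        | _ y =>
        rw [hfmk, MulAut.one_apply, QuotientGroup.eq]
        show ((MulAut.conjNormal (H := M) g y : M) : A)⁻¹ * y ∈ B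
        rw [MulAut.conjNormal_apply]
        have h' := hBn.conj_mem _ (inv_mem (h y)) (y : A)⁻¹
        simpa [mul_assoc] using h'
      exact hgM (hMeq ▸ ⟨hgk, hgC⟩)
    set z := g * y * g⁻¹ * (y : A)⁻¹ with hz
    have hzM : z ∈ M := mul_mem (hMn.conj_mem _ y.2 g) (inv_mem y.2)
    have h3 := hA z hy (fun h => h.2 hzM)
    have hmul := card_fixed_mul (V := V) g ((y : A) * g⁻¹ * (y : A)⁻¹) z (fun v h1 h2 => by
      rw [show z = g * ((y : A) * g⁻¹ * (y : A)⁻¹) by rw [hz]; group, mul_smul, h2, h1])
    have hconj : Nat.card (fixedSub V g) ≤ Nat.card (fixedSub V ((y : A) * g⁻¹ * (y : A)⁻¹)) := by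
      refine Nat.card_le_card_of_injective (fun v => ⟨(y : A) • v.1, ?_⟩)
        (fun v w e => Subtype.ext (MulAction.injective (y : A) (congrArg Subtype.val e :)))
      show ((y : A) * g⁻¹ * (y : A)⁻¹) • (y : A) • v.1 = (y : A) • v.1
      rw [mul_smul, inv_smul_smul, mul_smul, inv_smul_eq_iff.mpr (mem_fixedSub.mp v.2).symm]
    have h2 : Nat.card (fixedSub V g) ^ 2 ≤ N * Nat.card (fixedSub V z) := by
      rw [sq]; exact (Nat.mul_le_mul le_rfl hconj).trans hmul
    refine le_of_pow_le_pow_left₀ two_ne_zero (Nat.zero_le _) ?_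
    calc (Nat.card (fixedSub V g) ^ 3) ^ 2 = (Nat.card (fixedSub V g) ^ 2) ^ 3 := by ring
      _ ≤ (N * Nat.card (fixedSub V z)) ^ 3 := Nat.pow_le_pow_left h2 3
      _ = N ^ 3 * Nat.card (fixedSub V z) ^ 3 := by ring
      _ ≤ N ^ 3 * N := Nat.mul_le_mul le_rfl h3
      _ = (N ^ 2) ^ 2 := by ring
  -- the count
  haveI : Fintype A := Fintype.ofFinite A
  refine two_of_count hodd ?_
  have hsum : ∑ g ∈ Finset.univ.erase (1 : A), Nat.card (fixedSub V g) ^ 2 ≤
      Nat.card B + (Nat.card A - Nat.card B) * c1 ^ 2 + (X - 1) * e ^ 2 * Nat.card B * c2 ^ 2 := by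
    calc ∑ g ∈ Finset.univ.erase (1 : A), Nat.card (fixedSub V g) ^ 2
        ≤ ∑ g ∈ Finset.univ.erase (1 : A), ((if g ∈ B then 1 else 0) + (if g ∉ B then c1 ^ 2 else 0) +
            (if g ∈ C ∧ g ∉ M then c2 ^ 2 else 0)) := by
          refine Finset.sum_le_sum fun g hg => ?_
          by_cases hgB : g ∈ B
          · rw [hsemi g hgB (Finset.ne_of_mem_erase hg), if_pos hgB]; omega
          · by_cases hgX : g ∈ C ∧ g ∉ M
            · rw [if_pos hgX]
              have := Nat.pow_le_pow_left (Nat.le_findGreatest (P := fun c => c ^ 3 ≤ N ^ 2)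
                (hfle g) (hC2 g hgX.1 hgX.2)) 2
              rw [← hc2] at this; omega
            · rw [if_neg hgB, if_pos hgB]
              have := Nat.pow_le_pow_left (Nat.le_findGreatest (P := fun c => c ^ 3 ≤ N)
                (hfle g) (hA g hgB hgX)) 2
              rw [← hc1] at this; omega
      _ ≤ ∑ g : A, ((if g ∈ B then 1 else 0) + (if g ∉ B then c1 ^ 2 else 0) +
            (if g ∈ C ∧ g ∉ M then c2 ^ 2 else 0)) :=
          Finset.sum_le_sum_of_subset (Finset.subset_univ _)
      _ = _ := by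
          rw [Finset.sum_add_distrib, Finset.sum_add_distrib, Finset.sum_boole, ← Finset.sum_filter,
            ← Finset.sum_filter, Finset.sum_const, Finset.sum_const, smul_eq_mul, smul_eq_mul,
            ← Fintype.card_subtype, ← Nat.card_eq_fintype_card]
          have e1 : (Finset.univ.filter fun g : A => g ∉ B).card = Nat.card A - Nat.card B := by
            rw [Finset.filter_not, Finset.card_sdiff_of_subset (Finset.filter_subset _ _), Finset.card_univ,
              ← Fintype.card_subtype, ← Nat.card_eq_fintype_card, ← Nat.card_eq_fintype_card]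
          have e2 : (Finset.univ.filter fun g : A => g ∈ C ∧ g ∉ M).card =
              (X - 1) * e ^ 2 * Nat.card B := by
            have hsub : (Finset.univ.filter fun g : A => g ∈ M) ⊆ Finset.univ.filter fun g : A => g ∈ C :=
              fun g hg => by simp only [Finset.mem_filter, Finset.mem_univ, true_and] at hg ⊢; exact hMC hg
            rw [show (Finset.univ.filter fun g : A => g ∈ C ∧ g ∉ M) =
              (Finset.univ.filter fun g : A => g ∈ C) \ (Finset.univ.filter fun g : A => g ∈ M) by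
                ext g; simp, Finset.card_sdiff_of_subset hsub, ← Fintype.card_subtype,
              ← Fintype.card_subtype, ← Nat.card_eq_fintype_card, ← Nat.card_eq_fintype_card,
              show Nat.card {g : A // g ∈ C} = Nat.card C from rfl,
              show Nat.card {g : A // g ∈ M} = Nat.card M from rfl, hcardC, hcardM,
              Nat.sub_mul, one_mul, Nat.sub_mul]
          rw [e1, e2]
          rfl
  refine lt_of_le_of_lt (Nat.add_le_add_right hsum _) ?_
  rw [hcardA]
  have hqN : Nat.card K ≤ N := hN ▸ Nat.le_self_pow hr0 _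
  rcases Nat.lt_or_ge 1 e with he1 | he1
  · have her : e ≤ r := by
      rw [he, sq] at hdim
      exact Nat.mul_self_le_mul_self_iff.mp hdim
    have hq : ∀ s : ℕ, s.Prime → s ∣ e → s ∣ Nat.card K - 1 := hIdvd
    refine numeric_many hdodd hd hm2 hbK hc1s hc2s hc11 heodd he1
      ((Nat.pow_le_pow_right Nat.card_pos her).trans hN.ge) hX0 hq ?_ ?_ (hXle _ hI4)
      (fun h => hXle _ (hI3 h)) (fun h => hXle _ (hI5 h)) (fun h => hXle _ (hI7 h))
      (fun h => hXle _ (hI9 h))
    · intro h5
      have h := hq 5 (by norm_num) (h5 ▸ dvd_rfl)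
      by_contra hlt
      have h6 : Nat.card K = 6 := by
        have : 1 < Nat.card K := Finite.one_lt_card
        obtain ⟨c, hc⟩ := h
        omega
      rw [hqm'] at h6
      have h2 : 2 ∣ p := Nat.prime_two.dvd_of_dvd_pow (h6 ▸ (by norm_num : 2 ∣ 6))
      have h3 : 3 ∣ p := Nat.prime_three.dvd_of_dvd_pow (h6 ▸ (by norm_num : 3 ∣ 6))
      have e2 := (Nat.prime_dvd_prime_iff_eq Nat.prime_two hpp).mp h2
      have e3 := (Nat.prime_dvd_prime_iff_eq Nat.prime_three hpp).mp h3
      omega
    · intro h7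
      have := Nat.le_of_dvd (by have : 1 < Nat.card K := Finite.one_lt_card; omega)
        (hq 7 (by norm_num) (h7 ▸ dvd_rfl))
      omega
  · have he1' : e = 1 := by have := heodd.pos; omega
    subst he1'
    have hX1 : X = 1 := le_antisymm ((hXle _ hI4).trans (by norm_num)) hX0
    rw [hX1]
    simp only [Nat.sub_self, zero_mul, add_zero, one_pow, mul_one]
    exact numeric_one hdodd hd hm2 hqN hbK hc1s

end Cfsg.Agent.GStructB.OddBase
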