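import Cfsg.Agent.GStructB.OddBase.Gluck

/-!
# Two regular orbits on pairs of vectors

The statement proved by induction on the size of the module: an irreducible faithful action of a
solvable group of odd order on an abelian group `V` has at least two regular orbits on `V × V`.
Here are the reduction to faithful actions, the counting criterion and the imprimitive step.
-/

set_option autoImplicit false
set_option linter.style.haveILetI false
set_option linter.unusedSectionVars false

open MulAction

namespace Cfsg.Agent.GStructB.OddBase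

universe u v w

/-- Two pairs in different orbits, each of whose stabilizers acts trivially. -/
def TwoPairs (A : Type v) (V : Type w) [Group A] [AddCommGroup V] [DistribMulAction A V] : Prop :=
  ∃ p q : V × V, (∀ a : A, a • p = p → ∀ x : V, a • x = x) ∧
    (∀ a : A, a • q = q → ∀ x : V, a • x = x) ∧ ∀ a : A, a • p ≠ q

/-- Only the trivial invariant subgroups. -/
def Irred (A : Type v) (V : Type w) [Group A] [AddCommGroup V] [DistribMulAction A V] : Prop :=
  ∀ U : AddSubgroup V, (∀ a : A, ∀ x ∈ U, a • x ∈ U) → U = ⊥ ∨ U = ⊤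

/-- The induction statement. -/
def TwoOK (n : ℕ) : Prop :=
  ∀ (A : Type u) [Group A] [Finite A] (V : Type u) [AddCommGroup V] [Finite V]
    [DistribMulAction A V] [FaithfulSMul A V],
    Group.IsSolvable A → Odd (Nat.card A) → Nat.card V = n → 1 < n → Irred A V → TwoPairs A V

/-- An action that need not be faithful. -/
theorem two_kernel {n : ℕ} (h : TwoOK.{u} n) {A : Type v} [Group A] [Finite A] {V : Type u}
    [AddCommGroup V] [Finite V] [DistribMulAction A V] (hs : Group.IsSolvable A)
    (hodd : Odd (Nat.card A)) (hV : Nat.card V = n) (hn : 1 < n) (hirr : Irred A V) :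
    TwoPairs A V := by
  let f : A →* (AddMonoid.End V)ˣ := (DistribMulAction.toAddMonoidEnd A V).toHomUnits
  have hf : ∀ (a : A) (x : V), (f.rangeRestrict a) • x = a • x := fun a x => rfl
  haveI : Finite f.range := Finite.of_surjective f.rangeRestrict f.rangeRestrict_surjective
  haveI : FaithfulSMul f.range V := ⟨fun {g h} e => Subtype.ext (Units.ext
    (AddMonoidHom.ext fun x => e x))⟩
  haveI : Group.IsSolvable f.range := Group.isSolvable_of_surjective f.rangeRestrict_surjective
  obtain ⟨p, q, hp, hq, hpq⟩ := h f.range V inferInstance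
    (hodd.of_dvd_nat (Subgroup.card_range_dvd f)) hV hn
    (fun U hU => hirr U fun a x hx => hU (f.rangeRestrict a) x hx)
  exact ⟨p, q, fun a ha x => hp (f.rangeRestrict a) (Prod.ext (congrArg Prod.fst ha :)
      (congrArg Prod.snd ha :)) x,
    fun a ha x => hq (f.rangeRestrict a) (Prod.ext (congrArg Prod.fst ha :)
      (congrArg Prod.snd ha :)) x,
    fun a ha => hpq (f.rangeRestrict a) (Prod.ext (congrArg Prod.fst ha :)
      (congrArg Prod.snd ha :))⟩

section

variable {A : Type v} [Group A] {V : Type w} [AddCommGroup V] [DistribMulAction A V]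

variable (V) in
/-- The vectors fixed by `g`. -/
def fixedSub (g : A) : AddSubgroup V where
  carrier := {x | g • x = x}
  zero_mem' := smul_zero g
  add_mem' {x y} (hx : g • x = x) (hy : g • y = y) := by
    show g • (x + y) = x + y
    rw [smul_add, hx, hy]
  neg_mem' {x} (hx : g • x = x) := by
    show g • -x = -x
    rw [smul_neg, hx]

theorem mem_fixedSub {g : A} {x : V} : x ∈ fixedSub V g ↔ g • x = x := Iff.rfl

/-- An element of odd order differs from its inverse. -/
theorem ne_inv_of_odd [Finite A] (hodd : Odd (Nat.card A)) {g : A} (hg : g ≠ 1) : g ≠ g⁻¹ := by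
  intro e
  have ho : orderOf g ∣ 2 :=
    orderOf_dvd_of_pow_eq_one (by rw [sq]; exact eq_inv_iff_mul_eq_one.mp e)
  rcases (Nat.dvd_prime Nat.prime_two).mp ho with h | h
  · exact hg (orderOf_eq_one_iff.mp h)
  · exact absurd (hodd.of_dvd_nat (h ▸ orderOf_dvd_natCard g)) (by decide)

/-- The counting criterion. -/
theorem two_of_count [Fintype A] [DecidableEq A] [Finite V] (hodd : Odd (Nat.card A))
    (h : ∑ g ∈ Finset.univ.erase (1 : A), Nat.card (fixedSub V g) ^ 2 + 2 * Nat.card A
      < 2 * Nat.card V ^ 2) : TwoPairs A V := by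
  classical
  haveI : Fintype V := Fintype.ofFinite V
  let R : Finset (V × V) := Finset.univ.filter fun p => ∀ a : A, a • p = p → a = 1
  have hbad : ((Finset.univ : Finset (V × V)) \ R).card * 2 ≤
      ∑ g ∈ Finset.univ.erase (1 : A), Nat.card (fixedSub V g) ^ 2 := by
    calc ((Finset.univ : Finset (V × V)) \ R).card * 2
        ≤ ∑ p ∈ (Finset.univ : Finset (V × V)) \ R,
            ((Finset.univ.erase (1 : A)).filter fun g => g • p = p).card := by
          rw [← smul_eq_mul, ← Finset.sum_const]
          refine Finset.sum_le_sum fun p hp => ?_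
          simp only [R, Finset.mem_sdiff, Finset.mem_univ, Finset.mem_filter, true_and,
            not_forall, exists_prop] at hp
          obtain ⟨g, hg, hg1⟩ := hp
          refine Finset.one_lt_card.mpr ⟨g, ?_, g⁻¹, ?_, ne_inv_of_odd hodd hg1⟩
          · simp [hg, hg1]
          · simp [hg1, inv_smul_eq_iff, hg]
      _ ≤ ∑ p : V × V, ((Finset.univ.erase (1 : A)).filter fun g => g • p = p).card :=
          Finset.sum_le_sum_of_subset (Finset.subset_univ _)
      _ = ∑ g ∈ Finset.univ.erase (1 : A),
            (Finset.univ.filter fun p : V × V => g • p = p).card := by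
          simp only [Finset.card_filter]
          exact Finset.sum_comm
      _ = _ := by
          refine Finset.sum_congr rfl fun g _ => ?_
          rw [sq, ← Nat.card_prod, ← Fintype.card_subtype, ← Nat.card_eq_fintype_card]
          exact Nat.card_congr
            { toFun := fun p => (⟨p.1.1, congrArg Prod.fst p.2⟩, ⟨p.1.2, congrArg Prod.snd p.2⟩)
              invFun := fun p => ⟨(p.1.1, p.2.1), Prod.ext p.1.2 p.2.2⟩
              left_inv := fun p => rfl
              right_inv := fun p => rfl }
  have htot : ((Finset.univ : Finset (V × V)) \ R).card + R.card = Nat.card V ^ 2 := by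
    rw [Finset.card_sdiff_add_card_eq_card (Finset.subset_univ R), Finset.card_univ, sq,
      Fintype.card_prod, Nat.card_eq_fintype_card]
  have hR : Nat.card A < R.card := by omega
  obtain ⟨p, hp⟩ : R.Nonempty := Finset.card_pos.mp (by omega)
  obtain ⟨q, hq, hqp⟩ : ∃ q ∈ R, q ∉ Finset.univ.image fun a : A => a • p := by
    by_contra hno
    push Not at hno
    have := (Finset.card_le_card hno).trans Finset.card_image_le
    rw [Finset.card_univ, ← Nat.card_eq_fintype_card] at this
    omega
  simp only [R, Finset.mem_filter, Finset.mem_univ, true_and] at hp hq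
  exact ⟨p, q, fun a ha x => by rw [hp a ha, one_smul], fun a ha x => by rw [hq a ha, one_smul],
    fun a ha => hqp (Finset.mem_image.mpr ⟨a, Finset.mem_univ _, ha⟩)⟩

/-- Two pairs from an orbit of size at most `|V| ^ 2`. -/
theorem card_le_of_two [Finite A] [Finite V] [FaithfulSMul A V] (h : TwoPairs A V) :
    Nat.card A ≤ Nat.card V ^ 2 := by
  obtain ⟨p, -, hp, -, -⟩ := h
  rw [sq, ← Nat.card_prod]
  refine Nat.card_le_card_of_injective (fun a : A => a • p) fun a b hab => ?_
  have := hp (b⁻¹ * a) (by rw [mul_smul, inv_smul_eq_iff]; exact hab)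
  exact (inv_mul_eq_one.mp (eq_of_smul_eq_smul fun x : V => (this x).trans (one_smul A x).symm)).symm

end

section

variable {A : Type u} [Group A] [Finite A] {V : Type u} [AddCommGroup V] [Finite V]
  [DistribMulAction A V] [FaithfulSMul A V]

open scoped Pointwise

/-- The imprimitive step: a subgroup `T` whose translates are independent. -/
theorem imprimitive (hs : Group.IsSolvable A) (hodd : Odd (Nat.card A))
    (hlin : ∀ m < Nat.card V, LinOK.{u} m) (ih : ∀ m < Nat.card V, TwoOK.{u} m)
    (hirr : Irred A V) (T : AddSubgroup V) (hT : T ≠ ⊥)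
    (hind : iSupIndep fun U : MulAction.orbit A T => (U : AddSubgroup V))
    (hmove : ∃ a : A, a • T ≠ T) : TwoPairs A V := by
  classical
  set Q := MulAction.orbit A T
  haveI : Fintype Q := Fintype.ofFinite Q
  let q₀ : Q := ⟨T, mem_orbit_self T⟩
  have hq : ∀ U : Q, ∃ t : A, t • T = U := fun U => mem_orbit_iff.mp U.2
  choose t ht using hq
  have hact : ∀ (g : A) (U : Q), ((g • U : Q) : AddSubgroup V) = g • (U : AddSubgroup V) :=
    fun g U => rfl
  -- the decomposition
  let σ : (∀ U : Q, ↥(U : AddSubgroup V)) → V := fun f => ∑ U : Q, (f U : V)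
  have hσinj : ∀ f f' : (∀ U : Q, ↥(U : AddSubgroup V)), σ f = σ f' → f = f' := by
    intro f f' e
    funext U
    refine Subtype.ext (sub_eq_zero.mp ?_)
    have hsum : ∑ W : Q, ((f W : V) - f' W) = 0 := by
      rw [Finset.sum_sub_distrib]; exact sub_eq_zero.mpr e
    have hd := hind U
    rw [AddSubgroup.disjoint_def] at hd
    refine hd (sub_mem (f U).2 (f' U).2) ?_
    rw [← Finset.add_sum_erase _ _ (Finset.mem_univ U)] at hsum
    rw [eq_neg_of_add_eq_zero_left hsum]
    refine neg_mem (sum_mem fun W hW => ?_)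
    exact le_iSup₂ (f := fun (W : Q) (_ : W ≠ U) => (W : AddSubgroup V)) W
      (Finset.ne_of_mem_erase hW) (sub_mem (f W).2 (f' W).2)
  have hQodd : Odd (Nat.card Q) := by
    refine hodd.of_dvd_nat ?_
    rw [Nat.card_congr (orbitEquivQuotientStabilizer A T)]
    exact Subgroup.card_quotient_dvd_card _
  have hT1 : 1 < Nat.card T := by
    haveI := (AddSubgroup.nontrivial_iff_ne_bot T).mpr hT
    exact Finite.one_lt_card
  have hcard : ∀ U : Q, Nat.card ↥(U : AddSubgroup V) = Nat.card T := fun U => by
    rw [← ht U]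
    refine (Nat.card_eq_of_bijective (fun x : T => (⟨t U • x.1,
      AddSubgroup.smul_mem_pointwise_smul x.1 (t U) T x.2⟩ : ↥(t U • T)))
      ⟨fun x y e => Subtype.ext (MulAction.injective (t U) (congrArg Subtype.val e)), ?_⟩).symm
    rintro ⟨y, x, hx, rfl⟩
    exact ⟨⟨x, hx⟩, rfl⟩
  have hpow : Nat.card T ^ Nat.card Q ≤ Nat.card V := by
    refine le_of_eq_of_le ?_ (Nat.card_le_card_of_injective σ fun f f' e => hσinj f f' e)
    rw [Nat.card_pi, Finset.prod_congr rfl fun U _ => hcard U, Finset.prod_const,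
      Finset.card_univ, ← Nat.card_eq_fintype_card]
  have hQ1 : 1 < Nat.card Q := by
    obtain ⟨a, ha⟩ := hmove
    haveI : Nontrivial Q := ⟨⟨a • q₀, q₀, fun e => ha (congrArg Subtype.val e)⟩⟩
    exact Finite.one_lt_card
  have hQV : Nat.card Q < Nat.card V :=
    (Nat.lt_pow_self hT1).trans_le hpow
  have hTV : Nat.card T < Nat.card V := by
    refine lt_of_lt_of_le ?_ hpow
    calc Nat.card T = Nat.card T ^ 1 := (pow_one _).symm
      _ < _ := Nat.pow_lt_pow_right hT1 hQ1
  -- the stabilizer of a block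
  set H := stabilizer A T with hH
  letI : DistribMulAction H T :=
    { smul := fun h x => ⟨(h : A) • x.1, by
        have hx := AddSubgroup.smul_mem_pointwise_smul x.1 (h : A) T x.2
        rwa [show (h : A) • T = T from h.2] at hx⟩
      one_smul := fun x => Subtype.ext (one_smul A x.1)
      mul_smul := fun g h x => Subtype.ext (mul_smul (g : A) (h : A) x.1)
      smul_zero := fun g => Subtype.ext (smul_zero (g : A))
      smul_add := fun g x y => Subtype.ext (smul_add (g : A) x.1 y.1) }
  have hirrT : Irred H T := by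
    intro U hU
    set U' := U.map T.subtype with hU'
    have hU'T : U' ≤ T := by rintro _ ⟨x, -, rfl⟩; exact x.2
    set S := ⨆ W : Q, t W • U' with hS
    have hinv : ∀ a : A, a • S = S := by
      intro a
      have hle : ∀ a : A, a • S ≤ S := by
        intro a
        rw [AddSubgroup.pointwise_smul_le_iff, hS]
        refine iSup_le fun W => ?_
        rw [← AddSubgroup.pointwise_smul_le_iff]
        refine le_iSup_of_le (a • W) ?_
        rintro _ ⟨y, hy, rfl⟩
        obtain ⟨x, hx, rfl⟩ := (hy : y ∈ t W • U')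
        obtain ⟨z, hz, rfl⟩ := hx
        have hst : (t (a • W))⁻¹ * a * t W ∈ H := by
          rw [hH, mem_stabilizer_iff, mul_smul, mul_smul, ht, inv_smul_eq_iff, ht, hact]
        refine ⟨((⟨_, hst⟩ : H) • z : T), ⟨_, hU _ z hz, rfl⟩, ?_⟩
        show t (a • W) • ((t (a • W))⁻¹ * a * t W) • (z : V) = a • t W • (z : V)
        rw [mul_smul, mul_smul, smul_inv_smul]
      refine le_antisymm (hle a) ?_
      have := AddSubgroup.pointwise_smul_le_pointwise_smul_iff (a := a).mpr (hle a⁻¹)
      rwa [smul_inv_smul] at this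
    rcases hirr S (fun a x hx => hinv a ▸ AddSubgroup.smul_mem_pointwise_smul x a S hx) with h | h
    · left
      rw [eq_bot_iff]
      intro z hz
      have hm : t q₀ • (z : V) ∈ S :=
        le_iSup (fun W : Q => t W • U') q₀
          (AddSubgroup.smul_mem_pointwise_smul _ _ _ ⟨z, hz, rfl⟩)
      rw [h, AddSubgroup.mem_bot, smul_eq_zero_iff_eq] at hm
      exact Subtype.ext hm
    · right
      rw [eq_top_iff]
      intro z _
      have hz : t q₀ • (z : V) ∈ S := h ▸ AddSubgroup.mem_top _
      obtain ⟨f, hf⟩ : ∃ f : ∀ W : Q, ↥(t W • U'), ∑ W, (f W : V) = t q₀ • (z : V) := by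
        refine AddSubgroup.iSup_induction (fun W : Q => t W • U')
          (C := fun x => ∃ f : ∀ W : Q, ↥(t W • U'), ∑ W, (f W : V) = x) hz (fun W x hx => ?_)
          ⟨0, Finset.sum_eq_zero fun W _ => rfl⟩ ?_
        · refine ⟨Pi.single W ⟨x, hx⟩, ?_⟩
          rw [Finset.sum_eq_single W (fun W' _ hW => by rw [Pi.single_eq_of_ne hW]; rfl)
            (fun h => absurd (Finset.mem_univ _) h), Pi.single_eq_same]
        · rintro x y ⟨f, rfl⟩ ⟨f', rfl⟩
          exact ⟨f + f', Finset.sum_add_distrib⟩
      have hmem : ∀ W : Q, (f W : V) ∈ (W : AddSubgroup V) := fun W => by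
        rw [← ht W]
        exact AddSubgroup.pointwise_smul_le_pointwise_smul_iff.mpr hU'T (f W).2
      have hq0 : t q₀ • (z : V) ∈ ((q₀ : Q) : AddSubgroup V) := by
        rw [← ht q₀]; exact AddSubgroup.smul_mem_pointwise_smul _ _ _ z.2
      have e := hσinj (fun W => ⟨f W, hmem W⟩) (Pi.single q₀ ⟨_, hq0⟩) (by
        show ∑ W, (f W : V) = ∑ W, ((Pi.single q₀ (⟨_, hq0⟩ : ↥(q₀ : AddSubgroup V)) :
          ∀ W : Q, ↥(W : AddSubgroup V)) W : V)
        rw [hf, Finset.sum_eq_single q₀ (fun W _ hW => by rw [Pi.single_eq_of_ne hW]; rfl)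
          (fun h => absurd (Finset.mem_univ _) h), Pi.single_eq_same])
      have e0 : (f q₀ : V) = t q₀ • (z : V) := by
        have := congrArg Subtype.val (congrFun e q₀)
        rwa [Pi.single_eq_same] at this
      obtain ⟨y, hy, hyz⟩ := (e0 ▸ (f q₀).2 : t q₀ • (z : V) ∈ t q₀ • U')
      obtain ⟨z', hz', rfl⟩ := hy
      have : z' = z := Subtype.ext (MulAction.injective (t q₀) hyz)
      exact this ▸ hz'
  obtain ⟨c, d, hc, hd, hcd⟩ := two_kernel (ih _ hTV)
    (Group.isSolvable_of_isSolvable_injective H.subtype_injective)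
    (hodd.of_dvd_nat H.card_subgroup_dvd_card) rfl hT1 hirrT
  -- a subset of the blocks with trivial stabilizer
  obtain ⟨-, S0, hS0⟩ := permOK_kernel (H := A) (Y := Q)
    (permOK fun m hm => hlin m (lt_of_le_of_lt hm hQV)) hs hodd rfl (by omega)
  -- the pairs attached to subsets
  let comp : Set Q → Q → T × T := fun S U => if U ∈ S then c else d
  have hm1 : ∀ (S : Set Q) (U : Q), t U • ((comp S U).1 : V) ∈ (U : AddSubgroup V) := fun S U => by
    exact ht U ▸ AddSubgroup.smul_mem_pointwise_smul _ _ _ (comp S U).1.2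
  have hm2 : ∀ (S : Set Q) (U : Q), t U • ((comp S U).2 : V) ∈ (U : AddSubgroup V) := fun S U => by
    exact ht U ▸ AddSubgroup.smul_mem_pointwise_smul _ _ _ (comp S U).2.2
  let F1 : Set Q → V := fun S => ∑ U : Q, t U • ((comp S U).1 : V)
  let F2 : Set Q → V := fun S => ∑ U : Q, t U • ((comp S U).2 : V)
  have key : ∀ (g : A) (S S' : Set Q), g • F1 S = F1 S' → g • F2 S = F2 S' →
      (∀ U : Q, U ∈ S ↔ g • U ∈ S') ∧
      ∀ U : Q, ∀ h : H, (h : A) = (t (g • U))⁻¹ * g * t U → h • comp S U = comp S' (g • U) := by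
    intro g S S' e1 e2
    have hcomp : ∀ (i : T × T → T), (∀ (S : Set Q) (U : Q), t U • ((i (comp S U)) : V) ∈ (U : AddSubgroup V)) →
        g • (∑ U : Q, t U • ((i (comp S U)) : V)) = ∑ U : Q, t U • ((i (comp S' U)) : V) →
        ∀ U : Q, g • t U • ((i (comp S U)) : V) = t (g • U) • ((i (comp S' (g • U))) : V) := by
      intro i hi e U
      have hmem : ∀ W : Q, g • t (g⁻¹ • W) • ((i (comp S (g⁻¹ • W))) : V) ∈ (W : AddSubgroup V) := by
        intro W
        have := AddSubgroup.smul_mem_pointwise_smul _ g _ (hi S (g⁻¹ • W))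
        rwa [← hact, smul_inv_smul] at this
      have := hσinj (fun W => ⟨_, hmem W⟩) (fun W => ⟨_, hi S' W⟩) (by
        show ∑ W : Q, g • t (g⁻¹ • W) • ((i (comp S (g⁻¹ • W))) : V) =
          ∑ W : Q, t W • ((i (comp S' W)) : V)
        rw [← e, Finset.smul_sum]
        exact Fintype.sum_equiv (MulAction.toPerm g⁻¹) _ _ fun W => rfl)
      have h := congrArg Subtype.val (congrFun this (g • U))
      simp only [inv_smul_smul] at h
      exact h
    have k1 := hcomp Prod.fst hm1 e1
    have k2 := hcomp Prod.snd hm2 e2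
    have hk : ∀ U : Q, ∀ h : H, (h : A) = (t (g • U))⁻¹ * g * t U →
        h • comp S U = comp S' (g • U) := by
      intro U h hh
      refine Prod.ext (Subtype.ext ?_) (Subtype.ext ?_)
      · show (h : A) • ((comp S U).1 : V) = _
        rw [hh, mul_smul, mul_smul, k1, inv_smul_smul]
      · show (h : A) • ((comp S U).2 : V) = _
        rw [hh, mul_smul, mul_smul, k2, inv_smul_smul]
    refine ⟨fun U => ?_, hk⟩
    have hst : (t (g • U))⁻¹ * g * t U ∈ H := by
      rw [hH, mem_stabilizer_iff, mul_smul, mul_smul, ht, inv_smul_eq_iff, ht, hact]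
    have h := hk U ⟨_, hst⟩ rfl
    by_cases h1 : U ∈ S <;> by_cases h2 : g • U ∈ S' <;> simp only [comp, h1, h2, if_true, if_false] at h ⊢
    · exact absurd h (hcd _)
    · exact absurd (inv_smul_eq_iff.mpr h.symm) (hcd _)
  have hreg : ∀ S : Set Q, (∀ g : A, Keeps g S → ∀ U : Q, g • U = U) → ∀ g : A,
      g • (F1 S, F2 S) = (F1 S, F2 S) → ∀ x : V, g • x = x := by
    intro S hS g hg
    obtain ⟨hkeep, hcompg⟩ := key g S S (congrArg Prod.fst hg) (congrArg Prod.snd hg)
    have hfix := hS g fun U => (hkeep U).symm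
    suffices htop : fixedSub V g = ⊤ by intro x; exact mem_fixedSub.mp (htop ▸ AddSubgroup.mem_top x)
    have hsup : ⨆ U : Q, (U : AddSubgroup V) = ⊤ := by
      refine (hirr _ fun a x hx => ?_).resolve_left fun h => hT ?_
      · have h' : a • (⨆ U : Q, (U : AddSubgroup V)) ≤ ⨆ U : Q, (U : AddSubgroup V) := by
          rw [AddSubgroup.pointwise_smul_le_iff]
          refine iSup_le fun U => ?_
          rw [← AddSubgroup.pointwise_smul_le_iff]
          exact le_iSup_of_le (a • U) le_rfl
        exact h' (AddSubgroup.smul_mem_pointwise_smul x a _ hx)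
      · exact eq_bot_iff.mpr (le_iSup_of_le q₀ le_rfl |>.trans h.le)
    rw [eq_top_iff, ← hsup]
    refine iSup_le fun U y hy => ?_
    have hst : (t (g • U))⁻¹ * g * t U ∈ H := by
      rw [hH, mem_stabilizer_iff, mul_smul, mul_smul, ht, inv_smul_eq_iff, ht, hact]
    have hstab : (⟨_, hst⟩ : H) • comp S U = comp S U :=
      (hcompg U ⟨_, hst⟩ rfl).trans (congrArg (comp S) (hfix U))
    have htriv : ∀ x : T, (⟨_, hst⟩ : H) • x = x := by
      by_cases h : U ∈ S
      · simp only [comp, if_pos h] at hstab; exact hc _ hstab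
      · simp only [comp, if_neg h] at hstab; exact hd _ hstab
    rw [← ht U] at hy
    obtain ⟨x, hx, rfl⟩ := hy
    show g • t U • x = t U • x
    have := congrArg Subtype.val (htriv ⟨x, hx⟩)
    change ((t (g • U))⁻¹ * g * t U) • x = x at this
    rwa [hfix U, mul_smul, mul_smul, inv_smul_eq_iff] at this
  have hS0c : ∀ g : A, Keeps g S0ᶜ → ∀ U : Q, g • U = U := fun g hg =>
    hS0 g fun U => not_iff_not.mp (hg U)
  refine ⟨(F1 S0, F2 S0), (F1 S0ᶜ, F2 S0ᶜ), hreg S0 hS0, hreg S0ᶜ hS0c, fun g hg => ?_⟩
  obtain ⟨hsw, -⟩ := key g S0 S0ᶜ (congrArg Prod.fst hg) (congrArg Prod.snd hg)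
  have e : Nat.card S0 = Nat.card ↥S0ᶜ :=
    Nat.card_congr ((MulAction.toPerm g).subtypeEquiv fun U => hsw U)
  have hsum : Nat.card S0 + Nat.card ↥S0ᶜ = Nat.card Q :=
    Nat.card_sum.symm.trans (Nat.card_congr (Equiv.Set.sumCompl S0))
  exact (Nat.not_odd_iff_even.mpr ⟨_, (show Nat.card Q = Nat.card S0 + Nat.card S0 by omega)⟩) hQodd

end

end Cfsg.Agent.GStructB.OddBase
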